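import Cfsg.Agent.Lib.Blocks.OrderPPairs.Pairs
import Cfsg.Agent.Lib.Blocks.IndexThree

/-!
# The equations of the principal block at elements of order `p`

`P` is abelian with semiregular automizer of order `m`, `Pp` is the set of its elements of order `p`
(`n` of them), `q = |P|` and `σ χ` is the sum of `χ` over `Pp`. Then
`∑ σ² = m q n` and `∑ σ χ(1) = 0` over the principal block; if any two elements of order `p`
generate a `p`-solvable group, also `(p - 1) ∑ σ³/χ(1) ≥ (p - 2) m q n²`.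
-/

set_option autoImplicit false

namespace CfsgLib.Blocks.OrderPPairs

open Cfsg CfsgLib.Blocks CfsgLib.BrauerSuzuki CfsgLib.Blocks.TIAbelian
open scoped Classical ComplexConjugate

variable {G : Type*} [Group G] [Fintype G] {p : ℕ} [hp : Fact p.Prime] {P : Sylow p G}

/-- The elements of order `p` of `P`. -/
noncomputable def Pp (P : Sylow p G) : Finset ↥(P : Subgroup G) :=
  Finset.univ.filter fun x : ↥(P : Subgroup G) => orderOf (x : G) = p

theorem mem_Pp {x : ↥(P : Subgroup G)} : x ∈ Pp P ↔ orderOf (x : G) = p := by simp [Pp]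

theorem ne_one_of_mem_Pp {x : ↥(P : Subgroup G)} (hx : x ∈ Pp P) : (x : G) ≠ 1 := fun e => by
  have := mem_Pp.1 hx
  rw [e, orderOf_one] at this
  exact hp.out.one_lt.ne this

/-- The sum of a character over the elements of order `p` of `P`. -/
noncomputable def sig (P : Sylow p G) (χ : IrrCharacter G) : ℝ :=
  (∑ x ∈ Pp P, (χ : G → ℂ) (x : G)).re

theorem coe_sig (P : Sylow p G) (χ : IrrCharacter G) :
    ((sig P χ : ℝ) : ℂ) = ∑ x ∈ Pp P, (χ : G → ℂ) (x : G) := by
  refine Complex.conj_eq_iff_re.1 ?_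
  rw [map_sum]
  refine Finset.sum_bij' (fun x _ => x⁻¹) (fun x _ => x⁻¹) ?_ ?_ ?_ ?_ ?_
  · intro x hx; rw [mem_Pp] at hx ⊢; rw [Subgroup.coe_inv, orderOf_inv, hx]
  · intro x hx; rw [mem_Pp] at hx ⊢; rw [Subgroup.coe_inv, orderOf_inv, hx]
  · intro x _; exact inv_inv x
  · intro x _; exact inv_inv x
  · intro x _; rw [conj_irr, Subgroup.coe_inv]

theorem sig_trivChar : sig P (trivChar G) = (Pp P).card := by
  simp [sig, trivChar_apply]

/-- The indicator of the elements of order `p`. -/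
noncomputable def ind (p : ℕ) (x : G) : ℂ := if orderOf x = p then 1 else 0

theorem ind_fInv : FInv P (ind p) := fun g x _ _ => by simp [ind, orderOf_conj']

theorem ind_one : ind p (1 : G) = 0 := by
  rw [ind, if_neg]; rw [orderOf_one]; exact hp.out.one_lt.ne

theorem sFun_ind (g : G) : sFun P (ind p) g = if orderOf (pEl p g) = p then 1 else 0 := by
  obtain ⟨u, hu⟩ := exists_conj_pEl P g
  rw [sFun_eq ind_fInv hu, ind, orderOf_conj']

variable (h : FrobSylow P) {M : Ideal AlgInt} (hM : IsPModular p M)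
include h

omit h in
theorem sum_ind_mul (φ : G → ℂ) :
    ∑ x : ↥(P : Subgroup G), ind p (x : G) * φ x = ∑ x ∈ Pp P, φ x := by
  rw [Pp, Finset.sum_filter]
  refine Finset.sum_congr rfl fun x _ => ?_
  unfold ind
  split_ifs <;> simp

include hM in
theorem inner_eq {χ : IrrCharacter G} (hχ : χ ∈ principalBlock M G) :
    classInner (sFun P (ind p)) (χ : G → ℂ) =
      ((autCard P * Nat.card (P : Subgroup G) : ℕ) : ℂ)⁻¹ * (sig P χ : ℂ) := by
  rw [classInner_sFun h ind_fInv ind_one (Char.IsIrrCharacter.isClassFunction χ.2)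
    (fun z hz hz1 s hs => apply_section h hM hχ hz hz1 s hs),
    sum_ind_mul (fun x => conj ((χ : G → ℂ) x)), ← map_sum, ← coe_sig, Complex.conj_ofReal]

theorem inner_self : classInner (sFun P (ind p)) (sFun P (ind p)) =
      ((autCard P * Nat.card (P : Subgroup G) : ℕ) : ℂ)⁻¹ * ((Pp P).card : ℂ) := by
  rw [classInner_sFun h ind_fInv ind_one (sFun_isClassFunction ind_fInv) ?_,
    sum_ind_mul (fun x => conj (sFun P (ind p) x)), Finset.sum_congr rfl (g := fun _ => (1 : ℂ)) fun x hx => ?_,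
    Finset.sum_const, nsmul_eq_mul, mul_one]
  · rw [sFun_coe ind_fInv, ind, if_pos (mem_Pp.1 hx), map_one]
  · intro z hz hz1 s hs
    obtain ⟨k, hk⟩ := hz
    rw [sFun_ind, sFun_ind, pEl_mul (Subgroup.mem_centralizer_singleton_iff.1 s.2).symm hk
      (by rw [Subgroup.orderOf_coe]; exact hs)]
    have e2 : pEl p z = z := by
      have := pEl_mul (Commute.one_right z) hk (by rw [orderOf_one]; exact hp.out.not_dvd_one)
      rwa [mul_one] at this
    rw [e2]

/-- The principal block, as a finite set. -/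
noncomputable def pB (M : Ideal AlgInt) (G : Type*) [Group G] [Fintype G] : Finset (IrrCharacter G) :=
  Finset.univ.filter fun χ => χ ∈ principalBlock M G

omit h in
theorem mem_pB {χ : IrrCharacter G} : χ ∈ pB M G ↔ χ ∈ principalBlock M G := by simp [pB]

omit h in
theorem degree_pos (χ : IrrCharacter G) : (0 : ℝ) < (charDegree (χ : G → ℂ) : ℝ) := by
  exact_mod_cast charDegree_pos χ

theorem mq_ne : ((autCard P * Nat.card (P : Subgroup G) : ℕ) : ℂ) ≠ 0 := by
  exact_mod_cast mul_ne_zero h.autCard_pos.ne' Nat.card_pos.ne'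

include hM

theorem sum_sq : ∑ χ ∈ pB M G, sig P χ ^ 2 =
    (autCard P : ℝ) * Nat.card (P : Subgroup G) * (Pp P).card := by
  set F := sFun P (ind p) with hF
  set K : ℂ := ((autCard P * Nat.card (P : Subgroup G) : ℕ) : ℂ)⁻¹ with hK
  have e := Char.classInner_eq_sum_irr (sFun_isClassFunction (P := P) (f := ind p) ind_fInv) F
  rw [← Finset.sum_filter_add_sum_filter_not Finset.univ (fun χ => χ ∈ principalBlock M G),
    Finset.sum_eq_zero (s := Finset.univ.filter fun χ => ¬ χ ∈ principalBlock M G) (fun χ hχ => by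
      rw [classInner_sFun_eq_zero h hM ind_fInv ind_one (Finset.mem_filter.1 hχ).2, zero_mul]),
    add_zero, inner_self h, Finset.sum_congr rfl (g := fun χ => K * K * ((sig P χ ^ 2 : ℝ) : ℂ)) fun χ hχ => by
      rw [← Char.classInner_conj_symm F (χ : G → ℂ), inner_eq h hM (Finset.mem_filter.1 hχ).2, map_mul,
        Complex.conj_ofReal, hK, map_inv₀, map_natCast]
      push_cast; ring,
    ← Finset.mul_sum, ← Complex.ofReal_sum] at e
  have hm := mq_ne h
  have e' : ((Pp P).card : ℂ) * ((autCard P * Nat.card (P : Subgroup G) : ℕ) : ℂ) =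
      ((∑ χ ∈ pB M G, sig P χ ^ 2 : ℝ) : ℂ) := by
    rw [hK] at e
    rw [pB]
    field_simp at e
    linear_combination e
  have e'' : (∑ χ ∈ pB M G, sig P χ ^ 2) =
      ((Pp P).card : ℝ) * ((autCard P * Nat.card (P : Subgroup G) : ℕ) : ℝ) := by exact_mod_cast e'.symm
  rw [e'']; push_cast; ring

theorem sum_mul_degree : ∑ χ ∈ pB M G, sig P χ * (charDegree (χ : G → ℂ) : ℝ) = 0 := by
  set K : ℂ := ((autCard P * Nat.card (P : Subgroup G) : ℕ) : ℂ)⁻¹ with hK
  have e := congrFun (Char.IsClassFunction.eq_sum_irr (sFun_isClassFunction (P := P) (f := ind p) ind_fInv)) 1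
  rw [sFun_of_odd ind_fInv (by rw [orderOf_one]; exact hp.out.not_dvd_one), ind_one, Finset.sum_apply,
    ← Finset.sum_filter_add_sum_filter_not Finset.univ (fun χ => χ ∈ principalBlock M G),
    Finset.sum_eq_zero (s := Finset.univ.filter fun χ => ¬ χ ∈ principalBlock M G) (fun χ hχ => by
      rw [Pi.smul_apply, smul_eq_mul,
        classInner_sFun_eq_zero h hM ind_fInv ind_one (Finset.mem_filter.1 hχ).2, zero_mul]),
    add_zero, Finset.sum_congr rfl (g := fun χ => K * ((sig P χ * (charDegree (χ : G → ℂ) : ℝ) : ℝ) : ℂ)) fun χ hχ => by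
      rw [Pi.smul_apply, smul_eq_mul, inner_eq h hM (Finset.mem_filter.1 hχ).2, irr_one_eq, hK]
      push_cast; ring,
    ← Finset.mul_sum, ← Complex.ofReal_sum] at e
  have h0 := (mul_eq_zero.1 e.symm).resolve_left (inv_ne_zero (mq_ne h))
  exact_mod_cast h0

omit hM in
/-- A class function summed over the elements of order `p`. -/
theorem sum_ordP {c : ℕ} (hc : ∀ y : G, orderOf y = p → Nat.card (Subgroup.centralizer ({y} : Set G)) = c)
    {φ : G → ℂ} (hφ : IsClassFunction G φ) :
    ((autCard P * c : ℕ) : ℂ) * ∑ y ∈ ordP p G, φ y = (Nat.card G : ℂ) * ∑ x ∈ Pp P, φ x := by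
  have e : ∀ x ∈ Pp P, (Nat.card G : ℂ) * φ x
      = ∑ y ∈ ordP p G, ((Finset.univ.filter fun g : G => g * (x : G) * g⁻¹ = y).card : ℂ) * φ y := by
    intro x hx
    calc (Nat.card G : ℂ) * φ x = ∑ g : G, φ (g * (x : G) * g⁻¹) := by
          rw [Finset.sum_congr rfl fun g _ => hφ (x : G) g, Finset.sum_const, Finset.card_univ,
            Fintype.card_eq_nat_card, nsmul_eq_mul]
      _ = _ := by
          rw [← Finset.sum_fiberwise_of_maps_to (g := fun g : G => g * (x : G) * g⁻¹) (t := ordP p G)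
            (fun g _ => mem_ordP.2 (by rw [orderOf_conj', mem_Pp.1 hx]))]
          refine Finset.sum_congr rfl fun z _ => ?_
          rw [Finset.sum_congr rfl (g := fun _ => φ z) fun g hg => by rw [(Finset.mem_filter.1 hg).2],
            Finset.sum_const, nsmul_eq_mul]
  rw [Finset.mul_sum, Finset.mul_sum, Finset.sum_congr rfl e, Finset.sum_comm]
  refine Finset.sum_congr rfl fun y hy => ?_
  rw [← Finset.sum_mul, ← Nat.cast_sum]
  congr 2
  rw [mem_ordP] at hy
  rw [Finset.sum_congr rfl fun (x : ↥(P : Subgroup G)) _ => card_filter_conj (x : G) y,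
    ← Finset.sum_filter, Finset.sum_const, smul_eq_mul, hc y hy]
  congr 1
  obtain ⟨u, hu⟩ := exists_conj_mem_sylow_p P (R := Subgroup.zpowers y)
    (IsPGroup.of_card (n := 1) (by rw [Nat.card_zpowers, hy, pow_one]))
  have hy0 := hu y (Subgroup.mem_zpowers y)
  have hcj : IsConj y (u * y * u⁻¹) := isConj_iff.2 ⟨u, rfl⟩
  rw [← h.card_conj_inter hy0 fun e => by
    rw [conj_eq_one_iff] at e; rw [e, orderOf_one] at hy; exact hp.out.one_lt.ne hy]
  refine congrArg Finset.card (Finset.ext fun x => ?_)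
  simp only [Finset.mem_filter, mem_Pp, Finset.mem_univ, true_and]
  constructor
  · intro e
    obtain ⟨w, hw⟩ := isConj_iff.1 e
    refine ⟨?_, e.symm.trans hcj.symm |>.trans (IsConj.refl y)⟩
    rw [← hw, orderOf_conj', orderOf_conj', hy]
  · exact fun ⟨_, e⟩ => (e.trans hcj).symm

/-- The counting inequality. -/
theorem sum_cube_ge {c : ℕ} (hc : ∀ y : G, orderOf y = p → Nat.card (Subgroup.centralizer ({y} : Set G)) = c)
    (hpairs : ∀ x y : G, orderOf x = p → orderOf y = p → IsPSolvable p ↥(Subgroup.closure ({x, y} : Set G)))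
    (hn : (Pp P).Nonempty) :
    ((p : ℝ) - 2) * ((autCard P : ℝ) * Nat.card (P : Subgroup G)) * ((Pp P).card : ℝ) ^ 2 ≤
      ((p : ℝ) - 1) * ∑ χ ∈ pB M G, sig P χ ^ 3 / (charDegree (χ : G → ℂ) : ℝ) := by
  set F := sFun P (ind p) with hFdef
  set Ω := ordP p G with hΩ
  obtain ⟨x₀, hx₀⟩ := hn
  have hc0 : c ≠ 0 := by rw [← hc x₀ (mem_Pp.1 hx₀)]; exact Nat.card_pos.ne'
  have hmc : ((autCard P * c : ℕ) : ℂ) ≠ 0 := by exact_mod_cast mul_ne_zero h.autCard_pos.ne' hc0
  -- the sum of a character over `Ω`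
  set K : ℂ := (Nat.card G : ℂ) / ((autCard P * c : ℕ) : ℂ) with hKdef
  have hΩχ : ∀ χ : IrrCharacter G, ∑ y ∈ Ω, (χ : G → ℂ) y = K * (sig P χ : ℂ) := fun χ => by
    rw [hKdef, div_mul_eq_mul_div, eq_div_iff hmc, coe_sig, ← sum_ordP h hc (Char.IsIrrCharacter.isClassFunction χ.2)]
    ring
  have hΩ1 : (Ω.card : ℂ) = K * ((Pp P).card : ℂ) := by
    have := hΩχ (trivChar G)
    simp only [trivChar_apply, Finset.sum_const, nsmul_eq_mul, mul_one, sig_trivChar, Complex.ofReal_natCast] at this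
    exact this
  have hmult : ∀ (χ : IrrCharacter G) (b : G), ∑ a ∈ Ω, (χ : G → ℂ) (a * b)
      = (∑ a ∈ Ω, (χ : G → ℂ) a) * (χ : G → ℂ) b / (χ : G → ℂ) 1 := by
    intro χ b
    have hcf := Char.IsIrrCharacter.isClassFunction χ.2
    have e1 : ∀ u : G, ∑ a ∈ Ω, (χ : G → ℂ) (a * (u * b * u⁻¹)) = ∑ a ∈ Ω, (χ : G → ℂ) (a * b) := fun u => by
      refine Finset.sum_bij' (fun a _ => u⁻¹ * a * u) (fun a _ => u * a * u⁻¹) ?_ ?_ ?_ ?_ ?_
      · intro a ha
        rw [hΩ, mem_ordP] at ha ⊢
        rw [show u⁻¹ * a * u = u⁻¹ * a * u⁻¹⁻¹ by rw [inv_inv], orderOf_conj', ha]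
      · intro a ha; rw [hΩ, mem_ordP] at ha ⊢; rw [orderOf_conj', ha]
      · intro a _; group
      · intro a _; group
      · intro a _
        rw [← hcf (a * (u * b * u⁻¹)) u⁻¹]
        congr 1; group
    have e2 : ∑ u : G, ∑ a ∈ Ω, (χ : G → ℂ) (a * (u * b * u⁻¹))
        = (Nat.card G : ℂ) * ((∑ a ∈ Ω, (χ : G → ℂ) a) * (χ : G → ℂ) b / (χ : G → ℂ) 1) := by
      rw [Finset.sum_comm, Finset.sum_congr rfl fun a _ => Char.IsIrrCharacter.sum_mul_conjugate χ.2 a b,
        Finset.sum_mul, Finset.sum_div, Finset.mul_sum]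
      exact Finset.sum_congr rfl fun a _ => by ring
    rw [Finset.sum_congr rfl fun u _ => e1 u, Finset.sum_const, Finset.card_univ,
      Fintype.card_eq_nat_card, nsmul_eq_mul] at e2
    exact mul_left_cancel₀ (Nat.cast_ne_zero.2 Nat.card_pos.ne') e2
  -- the number of good pairs
  set T : ℕ := ∑ x ∈ Ω, (Ω.filter fun y => orderOf (pEl p (x * y)) = p).card with hT
  set S : ℝ := ∑ χ ∈ pB M G, sig P χ ^ 3 / (charDegree (χ : G → ℂ) : ℝ) with hS
  have hTS : (T : ℂ) = K ^ 2 * (((autCard P * Nat.card (P : Subgroup G) : ℕ) : ℂ))⁻¹ * (S : ℂ) := by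
    calc (T : ℂ) = ∑ x ∈ Ω, ∑ y ∈ Ω, F (x * y) := by
          rw [hT, Nat.cast_sum]
          refine Finset.sum_congr rfl fun x _ => ?_
          rw [Finset.card_filter, Nat.cast_sum]
          exact Finset.sum_congr rfl fun y _ => by simp only [hFdef, sFun_ind]; split_ifs <;> simp
      _ = ∑ y ∈ Ω, ∑ x ∈ Ω, ∑ χ : IrrCharacter G, classInner F (χ : G → ℂ) * (χ : G → ℂ) (x * y) := by
          rw [Finset.sum_comm]
          refine Finset.sum_congr rfl fun y _ => Finset.sum_congr rfl fun x _ => ?_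
          simp only [hFdef]
          conv_lhs => rw [Char.IsClassFunction.eq_sum_irr (sFun_isClassFunction (P := P) (f := ind p) ind_fInv)]
          simp [Finset.sum_apply]
      _ = ∑ χ : IrrCharacter G, classInner F (χ : G → ℂ) * ((K * (sig P χ : ℂ)) ^ 2 / (χ : G → ℂ) 1) := by
          rw [Finset.sum_congr rfl fun y _ => Finset.sum_comm, Finset.sum_comm]
          refine Finset.sum_congr rfl fun χ _ => ?_
          simp only [← Finset.mul_sum]
          congr 1
          rw [Finset.sum_congr rfl fun y _ => hmult χ y, ← Finset.sum_div, ← Finset.mul_sum, hΩχ χ]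
          ring
      _ = _ := by
          rw [← Finset.sum_filter_add_sum_filter_not Finset.univ (fun χ => χ ∈ principalBlock M G),
            Finset.sum_eq_zero (s := Finset.univ.filter fun χ => ¬ χ ∈ principalBlock M G) (fun χ hχ => by
              rw [hFdef, classInner_sFun_eq_zero h hM ind_fInv ind_one (Finset.mem_filter.1 hχ).2, zero_mul]),
            add_zero, hS, Complex.ofReal_sum, Finset.mul_sum]
          refine Finset.sum_congr rfl fun χ hχ => ?_
          rw [hFdef, inner_eq h hM (Finset.mem_filter.1 hχ).2, irr_one_eq]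
          push_cast
          ring
  set L : ℝ := ((autCard P * Nat.card (P : Subgroup G) : ℕ) : ℝ) with hL
  have hL0 : 0 < L := by
    rw [hL]; exact_mod_cast Nat.mul_pos h.autCard_pos Nat.card_pos
  set K' : ℝ := (Nat.card G : ℝ) / ((autCard P * c : ℕ) : ℝ) with hK'
  have hK'0 : 0 < K' := div_pos (by exact_mod_cast Nat.card_pos)
    (by exact_mod_cast Nat.mul_pos h.autCard_pos (Nat.pos_of_ne_zero hc0))
  have hKK : (K' : ℂ) = K := by rw [hK', hKdef]; push_cast; rfl
  have hT' : (T : ℝ) = K' ^ 2 * L⁻¹ * S := by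
    rw [← hKK] at hTS
    apply Complex.ofReal_injective
    push_cast [hL]
    exact_mod_cast hTS
  have hO' : (Ω.card : ℝ) = K' * (Pp P).card := by
    rw [← hKK] at hΩ1
    apply Complex.ofReal_injective
    push_cast
    exact hΩ1
  have hge : (((p - 2) * Ω.card * Ω.card : ℕ) : ℝ) ≤ (((p - 1) * T : ℕ) : ℝ) := by
    exact_mod_cast pairs_ge h.comm hpairs
  have hp2 := hp.out.two_le
  rw [Nat.cast_mul, Nat.cast_mul, Nat.cast_mul, Nat.cast_sub hp2, Nat.cast_sub (by omega : 1 ≤ p),
    hT', hO'] at hge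
  push_cast at hge
  have hmul : ((p : ℝ) - 2) * L * ((Pp P).card : ℝ) ^ 2 * (K' ^ 2 * L⁻¹) ≤
      ((p : ℝ) - 1) * S * (K' ^ 2 * L⁻¹) := by
    have : L * L⁻¹ = 1 := mul_inv_cancel₀ hL0.ne'
    calc _ = ((p : ℝ) - 2) * (K' * (Pp P).card) * (K' * (Pp P).card) * (L * L⁻¹) := by ring
      _ ≤ _ := by rw [this, mul_one]; linarith
  have := le_of_mul_le_mul_right hmul (mul_pos (pow_pos hK'0 2) (inv_pos.2 hL0))
  rw [hL, Nat.cast_mul] at this
  exact this

/-- The criterion: a bound for the ratios `σ/χ(1)` of the nontrivial characters excludes the situation. -/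
theorem criterion {c : ℕ} (hc : ∀ y : G, orderOf y = p → Nat.card (Subgroup.centralizer ({y} : Set G)) = c)
    (hpairs : ∀ x y : G, orderOf x = p → orderOf y = p → IsPSolvable p ↥(Subgroup.closure ({x, y} : Set G)))
    (hn : (Pp P).Nonempty) {l : ℝ} (hl : 0 ≤ l)
    (hbound : ∀ χ ∈ principalBlock M G, χ ≠ trivChar G →
      sig P χ ≤ l * (Pp P).card * (charDegree (χ : G → ℂ) : ℝ))
    (harith : ((p : ℝ) - 1) * (((Pp P).card : ℝ) +
        l * ((autCard P : ℝ) * Nat.card (P : Subgroup G) - (Pp P).card)) ≤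
      ((p : ℝ) - 2) * ((autCard P : ℝ) * Nat.card (P : Subgroup G))) : False := by
  set n : ℝ := ((Pp P).card : ℝ) with hn'
  set L : ℝ := (autCard P : ℝ) * Nat.card (P : Subgroup G) with hL
  have hn0 : 0 < n := by rw [hn']; exact_mod_cast Finset.card_pos.2 hn
  have ht : trivChar G ∈ pB M G := mem_pB.2 (trivChar_mem_principalBlock hM)
  have htd : (charDegree ((trivChar G : IrrCharacter G) : G → ℂ) : ℝ) = 1 := by simp [charDegree]
  have h1 := sum_mul_degree h hM
  have h2 := sum_sq h hM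
  rw [← Finset.add_sum_erase _ _ ht] at h1 h2
  rw [sig_trivChar, ← hn', htd, mul_one] at h1
  rw [sig_trivChar, ← hn'] at h2
  have h3 := sum_cube_ge h hM hc hpairs hn
  rw [← hn', ← hL, ← Finset.add_sum_erase _ _ ht, sig_trivChar, ← hn', htd, div_one] at h3
  have hlt : ∑ χ ∈ (pB M G).erase (trivChar G), sig P χ ^ 3 / (charDegree (χ : G → ℂ) : ℝ) <
      ∑ χ ∈ (pB M G).erase (trivChar G), l * n * sig P χ ^ 2 := by
    refine Finset.sum_lt_sum (fun χ hχ => ?_) ?_
    · have hd := degree_pos χ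
      have hb := hbound χ (mem_pB.1 (Finset.mem_of_mem_erase hχ)) (Finset.ne_of_mem_erase hχ)
      rw [div_le_iff₀ hd]
      nlinarith [mul_le_mul_of_nonneg_right hb (sq_nonneg (sig P χ))]
    · by_contra hcon
      push Not at hcon
      have hall : ∀ χ ∈ (pB M G).erase (trivChar G), 0 ≤ sig P χ * (charDegree (χ : G → ℂ) : ℝ) := by
        intro χ hχ
        by_contra hneg
        push Not at hneg
        have hd := degree_pos χ
        have hs : sig P χ < 0 := by nlinarith
        have h4 := hcon χ hχ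
        rw [le_div_iff₀ hd] at h4
        have h5 : 0 < sig P χ ^ 2 := pow_two_pos_of_ne_zero hs.ne
        nlinarith [mul_nonneg (mul_nonneg hl hn0.le) hd.le]
      have := Finset.sum_nonneg hall
      linarith
  rw [← Finset.mul_sum] at hlt
  have h4 : ∑ χ ∈ (pB M G).erase (trivChar G), sig P χ ^ 2 = L * n - n ^ 2 := by linarith
  rw [h4] at hlt
  have hp1 : (0 : ℝ) < (p : ℝ) - 1 := by
    have : (2 : ℝ) ≤ p := by exact_mod_cast hp.out.two_le
    linarith
  have h5 := mul_lt_mul_of_pos_left hlt hp1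
  have h6 := mul_le_mul_of_nonneg_right harith (sq_nonneg n)
  nlinarith

end CfsgLib.Blocks.OrderPPairs
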