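import Cfsg.Agent.Lib.Blocks.OrderPPairs.OneClass
import Cfsg.Agent.Lib.Blocks.TIAbelianExceptional
import Mathlib.NumberTheory.Basic

/-!
# A cyclic Sylow subgroup in a simple group

Some pair of elements of order `p` generates a group which is not `p`-solvable.
-/

set_option autoImplicit false
set_option maxHeartbeats 1000000

namespace CfsgLib.Blocks.OrderPPairs

open Cfsg CfsgLib.Blocks CfsgLib.BrauerSuzuki CfsgLib.Blocks.TIAbelian
open scoped Classical ComplexConjugate

variable {G : Type*} [Group G] [Fintype G] {p : ℕ} [hp : Fact p.Prime] {P : Sylow p G}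

omit hp in
theorem autCard_coprime [hp : Fact p.Prime] (hab : ∀ a ∈ (P : Subgroup G), ∀ b ∈ (P : Subgroup G), a * b = b * a) :
    ¬ p ∣ autCard P := by
  rw [autCard_eq]
  intro hdvd
  have h1 : (P : Subgroup G) ≤ Subgroup.centralizer ((P : Subgroup G) : Set G) := fun a ha =>
    Subgroup.mem_centralizer_iff.2 fun b hb => hab b hb a ha
  have h2 : (Subgroup.centralizer ((P : Subgroup G) : Set G)) ≤
      Subgroup.normalizer ((P : Subgroup G) : Set G) := fun c hc => Subgroup.mem_normalizer_iff.2 fun u => by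
    constructor
    · intro hu
      rwa [← Subgroup.mem_centralizer_iff.1 hc u hu, mul_inv_cancel_right]
    · intro hu
      have hcomm := Subgroup.mem_centralizer_iff.1 hc _ hu
      rw [inv_mul_cancel_right] at hcomm
      have e : c * u * c⁻¹ = u := by
        have := congrArg (fun t => c⁻¹ * t) hcomm
        simp only [inv_mul_cancel_left] at this
        calc c * u * c⁻¹ = c⁻¹ * (c * (c * u * c⁻¹)) := by group
          _ = c⁻¹ * (c * u) := by rw [← hcomm]
          _ = u := by group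
      rwa [e] at hu
  have h3 := Subgroup.relIndex_mul_relIndex _ _ _ h1 h2
  have h4 : (P : Subgroup G).relIndex (Subgroup.normalizer ((P : Subgroup G) : Set G)) ∣ (P : Subgroup G).index :=
    Subgroup.relIndex_dvd_index_of_le (h1.trans h2)
  exact P.not_dvd_index ((hdvd.trans ⟨_, (h3.symm.trans (mul_comm _ _))⟩).trans h4)

/-- A cyclic Sylow subgroup has semiregular automizer. -/
theorem frobSylow_of_cyclic (hP : IsCyclic ↥(P : Subgroup G)) : FrobSylow P := by
  haveI := hP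
  obtain ⟨z, hz⟩ := IsCyclic.exists_generator (α := ↥(P : Subgroup G))
  have hab : ∀ a ∈ (P : Subgroup G), ∀ b ∈ (P : Subgroup G), a * b = b * a := fun a ha b hb => by
    obtain ⟨i, hi⟩ := hz ⟨a, ha⟩
    obtain ⟨j, hj⟩ := hz ⟨b, hb⟩
    have : (⟨a, ha⟩ : ↥(P : Subgroup G)) * ⟨b, hb⟩ = ⟨b, hb⟩ * ⟨a, ha⟩ := by
      rw [← hi, ← hj]; exact ((Commute.refl z).zpow_zpow i j).eq
    exact congrArg Subtype.val this
  refine ⟨hab, fun y hy hy1 c hc => ?_⟩
  obtain ⟨hcC, hcN⟩ := Subgroup.mem_inf.1 hc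
  set α := (P : Subgroup G).normalizerMonoidHom ⟨c, hcN⟩ with hα
  have hαz : α = 1 := by
    obtain ⟨j, hj⟩ := hz (α z)
    obtain ⟨i, hi⟩ := hz ⟨y, hy⟩
    simp only at hj hi
    have hfix : α ⟨y, hy⟩ = ⟨y, hy⟩ := Subtype.ext (by
      show c * y * c⁻¹ = y
      rw [Subgroup.mem_centralizer_singleton_iff.1 hcC, mul_inv_cancel_right])
    obtain ⟨k, hk⟩ := IsPGroup.iff_orderOf.mp P.2 z
    have hyo : (p : ℤ) ∣ j - 1 := by
      obtain ⟨s, hs⟩ := IsPGroup.iff_orderOf.mp P.2 ⟨y, hy⟩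
      have hs0 : s ≠ 0 := by
        rintro rfl
        rw [pow_zero, orderOf_eq_one_iff] at hs
        exact hy1 (congrArg Subtype.val hs)
      have h1 : (⟨y, hy⟩ : ↥(P : Subgroup G)) ^ (j - 1) = 1 := by
        rw [zpow_sub, zpow_one, mul_inv_eq_one]
        conv_rhs => rw [← hfix, ← hi, map_zpow, ← hj, ← zpow_mul]
        rw [← hi, ← zpow_mul, mul_comm]
      have h2 := orderOf_dvd_iff_zpow_eq_one.2 h1
      rw [hs, Nat.cast_pow] at h2
      exact (dvd_pow_self _ hs0).trans h2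
    have hpow : ∀ t : ℕ, (α ^ t) z = z ^ (j ^ t) := by
      intro t
      induction t with
      | zero => simp
      | succ t ih => rw [pow_succ', MulAut.mul_apply, ih, map_zpow, ← hj, ← zpow_mul, pow_succ', mul_comm]
    have hz1 : (α ^ p ^ k) z = z := by
      rw [hpow]
      have h3 : ((p : ℤ) ^ k) ∣ j ^ p ^ k - 1 := by
        have h4 := dvd_sub_pow_of_dvd_sub hyo k
        rw [one_pow] at h4
        exact (pow_dvd_pow _ (Nat.le_succ k)).trans h4
      have h5 : z ^ (j ^ p ^ k - 1) = 1 := orderOf_dvd_iff_zpow_eq_one.1 (by rw [hk, Nat.cast_pow]; exact h3)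
      rwa [zpow_sub, zpow_one, mul_inv_eq_one] at h5
    have hpk : α ^ p ^ k = 1 := MulEquiv.ext fun a => by
      obtain ⟨i, rfl⟩ := hz a
      show (α ^ p ^ k) (z ^ i) = z ^ i
      rw [map_zpow, hz1]
    have h1 : orderOf α ∣ p ^ k := orderOf_dvd_of_pow_eq_one hpk
    have h2 : orderOf α ∣ autCard P := by
      have hmem : α ∈ autGroup P := ⟨_, rfl⟩
      exact Subgroup.orderOf_dvd_natCard _ hmem
    obtain ⟨l, -, hl⟩ := (Nat.dvd_prime_pow hp.out).1 h1
    by_contra hne
    have hl0 : l ≠ 0 := fun h0 => hne (orderOf_eq_one_iff.1 (by rw [hl, h0, pow_zero]))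
    exact autCard_coprime hab ((dvd_pow_self p hl0).trans (hl ▸ h2))
  refine Subgroup.mem_centralizer_iff.2 fun w hw => ?_
  have e : c * w * c⁻¹ = w := congrArg Subtype.val (DFunLike.congr_fun hαz (⟨w, hw⟩ : ↥(P : Subgroup G)))
  exact (mul_inv_eq_iff_eq_mul.1 e).symm

section Values

variable (hP : IsCyclic ↥(P : Subgroup G)) (hP1 : (P : Subgroup G) ≠ ⊥)
include hP hP1

theorem card_Pp : (Pp P).card = p - 1 := by
  haveI := hP
  obtain ⟨k, hk⟩ := P.2.exists_card_eq
  have hk0 : k ≠ 0 := by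
    rintro rfl
    rw [pow_zero] at hk
    exact hP1 (Subgroup.eq_bot_of_card_eq _ hk)
  have hd : p ∣ Fintype.card ↥(P : Subgroup G) := by
    rw [← Nat.card_eq_fintype_card, hk]; exact dvd_pow_self p hk0
  have := IsCyclic.card_orderOf_eq_totient (α := ↥(P : Subgroup G)) hd
  rw [Nat.totient_prime hp.out] at this
  rw [← this, Pp]
  exact congrArg Finset.card (Finset.filter_congr fun x _ => by rw [Subgroup.orderOf_coe])

theorem Pp_mem_zpowers {x y : ↥(P : Subgroup G)} (hx : x ∈ Pp P) (hy : y ∈ Pp P) :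
    y ∈ Subgroup.zpowers x := by
  haveI := hP
  rw [mem_Pp, Subgroup.orderOf_coe] at hx hy
  set S : Finset ↥(P : Subgroup G) :=
    (Finset.univ.filter fun w : ↥(P : Subgroup G) => w ∈ Subgroup.zpowers x).erase 1 with hS
  have hcard : S.card = p - 1 := by
    rw [hS, Finset.card_erase_of_mem (Finset.mem_filter.2 ⟨Finset.mem_univ _, one_mem _⟩)]
    have h2 : Fintype.card ↥(Subgroup.zpowers x) = p := by
      rw [← Nat.card_eq_fintype_card, Nat.card_zpowers, hx]
    rw [Fintype.card_subtype] at h2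
    rw [h2]
  have hsub : S ⊆ Pp P := by
    intro w hw
    simp only [hS, Finset.mem_erase, Finset.mem_filter, Finset.mem_univ, true_and] at hw
    have hd : orderOf w ∣ p := (orderOf_dvd_of_mem_zpowers hw.2).trans (dvd_of_eq hx)
    rw [mem_Pp, Subgroup.orderOf_coe]
    exact ((Nat.dvd_prime hp.out).1 hd).resolve_left (mt orderOf_eq_one_iff.1 hw.1)
  have heq := Finset.eq_of_subset_of_card_le hsub (by rw [hcard, card_Pp hP hP1])
  have hy' : y ∈ S := by rw [heq, mem_Pp, Subgroup.orderOf_coe]; exact hy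
  simp only [hS, Finset.mem_erase, Finset.mem_filter] at hy'
  exact hy'.2.2

/-- The sum of a linear character over the elements of order `p`. -/
theorem sum_hom_Pp {x₁ : ↥(P : Subgroup G)} (hx₁ : x₁ ∈ Pp P) (μ : ↥(P : Subgroup G) →* ℂˣ) :
    ∑ x ∈ Pp P, ((μ x : ℂˣ) : ℂ) = if μ x₁ = 1 then ((p - 1 : ℕ) : ℂ) else -1 := by
  split_ifs with h
  · rw [Finset.sum_congr rfl (g := fun _ => (1 : ℂ)) fun x hx => ?_, Finset.sum_const, nsmul_eq_mul, mul_one,
      card_Pp hP hP1]
    obtain ⟨i, hi⟩ := Pp_mem_zpowers hP hP1 hx₁ hx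
    rw [← hi]; simp [h]
  · set Q : Finset ↥(P : Subgroup G) := Finset.univ.filter fun x : ↥(P : Subgroup G) => x ^ p = 1 with hQ
    have hQe : Q = insert 1 (Pp P) := by
      ext x
      simp only [hQ, Finset.mem_filter, Finset.mem_univ, true_and, Finset.mem_insert, mem_Pp,
        Subgroup.orderOf_coe]
      refine ⟨fun e => ?_, ?_⟩
      · rcases (Nat.dvd_prime hp.out).1 (orderOf_dvd_of_pow_eq_one e) with h1 | h1
        · exact Or.inl (orderOf_eq_one_iff.1 h1)
        · exact Or.inr h1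
      · rintro (rfl | e)
        · exact one_pow p
        · have := pow_orderOf_eq_one x
          rwa [e] at this
    have hnot : (1 : ↥(P : Subgroup G)) ∉ Pp P := fun e => ne_one_of_mem_Pp e rfl
    have hx₁p : x₁ ^ p = 1 := by
      have := mem_Pp.1 hx₁
      rw [Subgroup.orderOf_coe] at this
      have h' := pow_orderOf_eq_one x₁
      rwa [this] at h'
    have hcm : ∀ a b : ↥(P : Subgroup G), Commute a b := fun a b =>
      Subtype.ext ((frobSylow_of_cyclic hP).comm a a.2 b b.2)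
    have hshift : ((μ x₁ : ℂˣ) : ℂ) * ∑ x ∈ Q, ((μ x : ℂˣ) : ℂ) = ∑ x ∈ Q, ((μ x : ℂˣ) : ℂ) := by
      rw [Finset.mul_sum]
      refine Finset.sum_bij' (fun x _ => x₁ * x) (fun x _ => x₁⁻¹ * x) ?_ ?_ ?_ ?_ ?_
      · intro x hx
        simp only [hQ, Finset.mem_filter, Finset.mem_univ, true_and] at hx ⊢
        rw [(hcm _ _).mul_pow, hx, hx₁p, one_mul]
      · intro x hx
        simp only [hQ, Finset.mem_filter, Finset.mem_univ, true_and] at hx ⊢
        rw [(hcm _ _).mul_pow, inv_pow, hx, hx₁p, inv_one, one_mul]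
      · intro x _; simp
      · intro x _; simp
      · intro x _; simp
    have h0 : ∑ x ∈ Q, ((μ x : ℂˣ) : ℂ) = 0 := by
      by_contra hne
      exact h (Units.ext ((mul_eq_right₀ hne).1 hshift))
    rw [hQe, Finset.sum_insert hnot, map_one, Units.val_one] at h0
    linear_combination h0

end Values

theorem autCard_dvd (h : FrobSylow P) (hP : IsCyclic ↥(P : Subgroup G)) (hP1 : (P : Subgroup G) ≠ ⊥) :
    autCard P ∣ p - 1 := by
  rw [← card_Pp hP hP1, Finset.card_eq_sum_card_image (fun x : ↥(P : Subgroup G) => ConjClasses.mk (x : G)) (Pp P)]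
  refine Finset.dvd_sum fun b hb => ?_
  obtain ⟨x, hx, rfl⟩ := Finset.mem_image.1 hb
  refine dvd_of_eq ?_
  rw [← h.card_conj_inter x.2 (ne_one_of_mem_Pp hx)]
  refine congrArg Finset.card (Finset.ext fun y => ?_)
  simp only [Finset.mem_filter, Finset.mem_univ, true_and, ConjClasses.mk_eq_mk_iff_isConj]
  refine ⟨fun e => ⟨?_, e.symm⟩, fun e => e.2.symm⟩
  obtain ⟨w, hw⟩ := isConj_iff.1 e
  rw [mem_Pp, ← hw, orderOf_conj']
  exact mem_Pp.1 hx

theorem orth_hom {μ ν : ↥(P : Subgroup G) →* ℂˣ} (h : ν ≠ μ) :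
    ∑ x : ↥(P : Subgroup G), ((ν x : ℂˣ) : ℂ) * conj ((μ x : ℂˣ) : ℂ) = 0 := by
  have e := Char.classInner_irr_ne (Char.isIrrCharacter_hom ν) (Char.isIrrCharacter_hom μ)
    fun e => h (MonoidHom.ext fun x => Units.ext (congrFun e x))
  rw [Cfsg.classInner, mul_eq_zero] at e
  exact e.resolve_left (inv_ne_zero (Nat.cast_ne_zero.2 Nat.card_pos.ne'))

/-- In a simple group with a cyclic Sylow subgroup some pair is not p-solvable. -/
theorem cyclic_case [IsSimpleGroup G] (hp2 : p ≠ 2) (hP : IsCyclic ↥(P : Subgroup G))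
    (hP1 : (P : Subgroup G) ≠ ⊥) (hns : ¬ IsPSolvable p G)
    (hpairs : ∀ x y : G, orderOf x = p → orderOf y = p →
      IsPSolvable p ↥(Subgroup.closure ({x, y} : Set G))) : False := by
  have h := frobSylow_of_cyclic hP
  set m := autCard P with hmdef
  set q := Nat.card (P : Subgroup G) with hqdef
  have hp3 : 3 ≤ p := by have := hp.out.two_le; omega
  have hn := card_Pp hP hP1
  have hm2 : 2 ≤ m := by
    rcases Nat.lt_or_ge m 2 with hlt | hge
    · exfalso
      have hm1 : m = 1 := by have := h.autCard_pos; omega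
      apply hns
      refine Fusion.PSolvable.psolvable_of_npc (Fusion.Abelian.npc_of_normalizer_le_centralizer P ?_)
      rw [hmdef, autCard_eq, Subgroup.relIndex_eq_one] at hm1
      exact hm1
    · exact hge
  have hmd := autCard_dvd h hP hP1
  have hmle : m ≤ p - 1 := Nat.le_of_dvd (by omega) hmd
  obtain ⟨e, he⟩ := P.2.exists_card_eq
  have he0 : e ≠ 0 := by
    rintro rfl
    rw [pow_zero] at he
    exact hP1 (Subgroup.eq_bot_of_card_eq _ he)
  have hpq : p ≤ q := by rw [hqdef, he]; exact Nat.le_self_pow he0 p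
  by_cases hbig : m + 1 < q
  swap
  · have hqp : q = p := by omega
    refine one_class h hp2 hP1 (fun x hx hx1 => ?_) (fun x hx y hy hx1 hy1 => ?_) hpairs
    · have hd := Subgroup.orderOf_dvd_natCard _ hx
      rw [← hqdef, hqp] at hd
      exact ((Nat.dvd_prime hp.out).1 hd).resolve_left (mt orderOf_eq_one_iff.1 hx1)
    · have hsub : (Finset.univ.filter fun w : ↥(P : Subgroup G) => IsConj x (w : G)) =
          (Finset.univ : Finset ↥(P : Subgroup G)).erase 1 := by
        refine Finset.eq_of_subset_of_card_le (fun w hw => ?_) ?_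
        · simp only [Finset.mem_filter, Finset.mem_univ, true_and] at hw
          refine Finset.mem_erase.2 ⟨fun e1 => ?_, Finset.mem_univ _⟩
          rw [e1, OneMemClass.coe_one] at hw
          exact hx1 (isConj_one_left.1 hw)
        · rw [h.card_conj_inter hx hx1, Finset.card_erase_of_mem (Finset.mem_univ _), Finset.card_univ,
            ← Nat.card_eq_fintype_card, ← hqdef, ← hmdef]
          omega
      have : (⟨y, hy⟩ : ↥(P : Subgroup G)) ∈ Finset.univ.filter fun w : ↥(P : Subgroup G) => IsConj x (w : G) := by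
        rw [hsub]; exact Finset.mem_erase.2 ⟨fun e1 => hy1 (congrArg Subtype.val e1), Finset.mem_univ _⟩
      exact (Finset.mem_filter.1 this).2
  obtain ⟨M, hM⟩ := exists_isPModular hp.out
  obtain ⟨X, Y, a, d₀, δ, ζ, hB, hdisj, htX, hXm, hYm, hδ, hX, hζY, hsurj, hiff, hval, hnorm, -, -⟩ :=
    TIAbelian.exceptional h (by rw [← hmdef]; exact hbig) hM
  rw [← hmdef] at hYm hnorm
  rw [← hqdef] at hYm
  obtain ⟨x₁, hx₁⟩ : (Pp P).Nonempty := Finset.card_pos.1 (by omega)
  have hx₁1 : (x₁ : G) ≠ 1 := ne_one_of_mem_Pp hx₁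
  have hY2 : 2 ≤ Y.card := by
    rcases Nat.lt_or_ge Y.card 2 with hlt | hge
    · have h5 : m * Y.card ≤ m := by nlinarith
      omega
    · exact hge
  have hat : a (trivChar G) = 1 := by
    have e1 := (hX _ htX).2 _ _ (IndexThree.isPPart_self x₁.2) x₁.2 hx₁1
    rw [trivChar_apply] at e1
    exact_mod_cast e1.symm
  -- bounds for the coefficients
  have hS1 : (1 : ℤ) ≤ ∑ χ ∈ X, a χ ^ 2 := by
    refine le_trans ?_ (Finset.single_le_sum (f := fun χ => a χ ^ 2) (fun _ _ => sq_nonneg _) htX)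
    simp [hat]
  have hY1 : (1 : ℤ) ≤ (Y.card : ℤ) - 1 := by omega
  have hYd : ((Y.card : ℤ) - 1) * d₀ ^ 2 ≤ m := by nlinarith [sq_nonneg (d₀ - δ)]
  have hd0 : d₀ ^ 2 ≤ (m : ℤ) := by nlinarith [sq_nonneg d₀]
  have hd0m : d₀ ≤ (m : ℤ) := by nlinarith
  have ha2 : ∀ χ ∈ X, χ ≠ trivChar G → a χ ^ 2 ≤ (m : ℤ) := by
    intro χ hχ hne
    have h1 : a (trivChar G) ^ 2 + a χ ^ 2 ≤ ∑ χ ∈ X, a χ ^ 2 := by
      rw [← Finset.sum_pair (f := fun χ => a χ ^ 2) hne.symm]
      exact Finset.sum_le_sum_of_subset_of_nonneg (fun w hw => by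
        rcases Finset.mem_insert.1 hw with rfl | hw
        · exact htX
        · rwa [Finset.mem_singleton.1 hw]) fun _ _ _ => sq_nonneg _
    rw [hat] at h1
    nlinarith [sq_nonneg (d₀ - δ), mul_nonneg (le_trans zero_le_one hY1) (sq_nonneg d₀)]
  -- `2 m ≤ q`, and more precisely
  have hmZ : (2 : ℤ) ≤ m := by exact_mod_cast hm2
  have hmZ' : (m : ℤ) ≤ (p : ℤ) - 1 := by omega
  have hp3Z : (3 : ℤ) ≤ p := by exact_mod_cast hp3
  have hqp : (q : ℤ) = p ∧ 2 * (m : ℤ) ≤ (p : ℤ) - 1 ∨ (p : ℤ) ^ 2 ≤ q := by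
    rcases Nat.lt_or_ge e 2 with hlt | hge
    · left
      have he1 : e = 1 := by omega
      have hqp : q = p := by rw [hqdef, he, he1, pow_one]
      refine ⟨by exact_mod_cast hqp, ?_⟩
      obtain ⟨r, hr⟩ := hmd
      rw [← hmdef] at hr
      have hr1 : r ≠ 1 := fun e1 => by rw [e1, mul_one] at hr; omega
      have hr0 : r ≠ 0 := fun e1 => by rw [e1, mul_zero] at hr; omega
      have : 2 * m ≤ p - 1 := by rw [hr]; nlinarith [show 2 ≤ r by omega]
      omega
    · right
      have : p ^ 2 ≤ q := by rw [hqdef, he]; exact Nat.pow_le_pow_right hp.out.pos hge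
      exact_mod_cast this
  have h2mq : 2 * (m : ℤ) ≤ q := by
    rcases hqp with ⟨h1, h2⟩ | h1
    · omega
    · nlinarith
  have hkey : ((p : ℤ) - 1) * d₀ + (m : ℤ) * ((p : ℤ) + 1) ≤ ((p : ℤ) - 1) * q := by
    rcases hqp with ⟨h1, h2⟩ | h1 <;> nlinarith
  have hq9 : p = 3 → (9 : ℤ) ≤ q ∧ d₀ = 0 ∧ (m : ℤ) = 2 := by
    intro e3
    have h9 : (9 : ℤ) ≤ q := by
      rcases hqp with ⟨h1, h2⟩ | h1
      · subst e3; push_cast at h2; omega
      · subst e3; push_cast at h1; linarith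
    have hm2' : m = 2 := by omega
    refine ⟨h9, ?_, by exact_mod_cast hm2'⟩
    have hYq : (m : ℤ) * Y.card + 1 = q := by exact_mod_cast hYm
    rw [show (m : ℤ) = 2 by exact_mod_cast hm2'] at hYd hYq
    have h6 : (3 : ℤ) * d₀ ^ 2 ≤ 2 := by
      nlinarith [mul_le_mul_of_nonneg_right (show (3 : ℤ) ≤ (Y.card : ℤ) - 1 by omega) (sq_nonneg d₀)]
    have h7 : d₀ ^ 2 ≤ 0 := by omega
    nlinarith
  -- the linear characters
  letI : CommGroup ↥(P : Subgroup G) :=
    { (inferInstance : Group ↥(P : Subgroup G)) with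
      mul_comm := fun a b => Subtype.ext (h.comm a a.2 b b.2) }
  haveI : Finite (↥(P : Subgroup G) →* ℂˣ) :=
    Finite.of_equiv _ (CommGroup.monoidHom_mulEquiv_of_hasEnoughRootsOfUnity ↥(P : Subgroup G) ℂ).some.toEquiv.symm
  letI : Fintype (↥(P : Subgroup G) →* ℂˣ) := Fintype.ofFinite _
  have hdual : Nat.card (↥(P : Subgroup G) →* ℂˣ) = q :=
    Nat.card_congr (CommGroup.monoidHom_mulEquiv_of_hasEnoughRootsOfUnity ↥(P : Subgroup G) ℂ).some.toEquiv
  have horbcard : ∀ ψ, ψ ≠ 1 → (orb P ψ).card = m := fun ψ hψ => by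
    have := IndexThree.sum_orb h hψ fun _ => (1 : ℂ)
    rw [Finset.sum_const, Finset.sum_const, nsmul_eq_mul, nsmul_eq_mul, mul_one, mul_one, Finset.card_univ] at this
    have h1 : (orb P ψ).card = Fintype.card ↥(autGroup P) := by exact_mod_cast this
    rw [h1, hmdef, autCard, Nat.card_eq_fintype_card]
  have houter : ∀ ψ, ψ ≠ 1 → ∃ μ, μ ≠ 1 ∧ μ ∉ orb P ψ := fun ψ hψ => by
    obtain ⟨μ, -, hμ⟩ := Finset.exists_mem_notMem_of_card_lt_card
      (s := insert 1 (orb P ψ)) (t := (Finset.univ : Finset (↥(P : Subgroup G) →* ℂˣ))) (by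
        rw [Finset.card_univ, ← Nat.card_eq_fintype_card, hdual]
        exact lt_of_le_of_lt (Finset.card_insert_le _ _) (by rw [horbcard ψ hψ]; exact hbig))
    rw [Finset.mem_insert, not_or] at hμ
    exact ⟨μ, hμ⟩
  -- the values
  have hnR : ((Pp P).card : ℝ) = (p : ℝ) - 1 := by
    rw [hn, Nat.cast_sub (by omega), Nat.cast_one]
  have hc : ∀ y : G, orderOf y = p → Nat.card (Subgroup.centralizer ({y} : Set G))
      = Nat.card (Subgroup.centralizer ({(x₁ : G)} : Set G)) := by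
    intro y hy
    obtain ⟨u, hu⟩ := exists_conj_mem_sylow_p P (R := Subgroup.zpowers y)
      (IsPGroup.of_card (n := 1) (by rw [Nat.card_zpowers, hy, pow_one]))
    have hx := hu y (Subgroup.mem_zpowers y)
    have hxP : (⟨_, hx⟩ : ↥(P : Subgroup G)) ∈ Pp P := mem_Pp.2 (by rw [orderOf_conj', hy])
    obtain ⟨i, hi⟩ := Pp_mem_zpowers hP hP1 hx₁ hxP
    obtain ⟨i', hi'⟩ := Pp_mem_zpowers hP hP1 hxP hx₁
    have hi0 : (x₁ : G) ^ i = u * y * u⁻¹ := by rw [← Subgroup.coe_zpow]; exact congrArg Subtype.val hi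
    have hi1 : (u * y * u⁻¹) ^ i' = (x₁ : G) := by
      have := congrArg Subtype.val hi'
      rw [Subgroup.coe_zpow] at this
      exact this
    have heq : Subgroup.centralizer ({u * y * u⁻¹} : Set G) = Subgroup.centralizer ({(x₁ : G)} : Set G) := by
      ext c
      rw [Subgroup.mem_centralizer_singleton_iff, Subgroup.mem_centralizer_singleton_iff]
      constructor
      · intro e1; rw [← hi1]; exact (Commute.zpow_right (show Commute c _ from e1) i').eq
      · intro e1; rw [← hi0]; exact (Commute.zpow_right (show Commute c _ from e1) i).eq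
    rw [← heq]
    refine Nat.card_congr ((MulAut.conj u).toEquiv.subtypeEquiv fun c => ?_)
    rw [Subgroup.mem_centralizer_singleton_iff, Subgroup.mem_centralizer_singleton_iff]
    show c * y = y * c ↔ u * c * u⁻¹ * (u * y * u⁻¹) = u * y * u⁻¹ * (u * c * u⁻¹)
    have e1 : u * c * u⁻¹ * (u * y * u⁻¹) = u * (c * y) * u⁻¹ := by group
    have e2 : u * y * u⁻¹ * (u * c * u⁻¹) = u * (y * c) * u⁻¹ := by group
    rw [e1, e2, mul_left_inj, mul_right_inj]
  have hvalX : ∀ χ ∈ X, ∀ x : ↥(P : Subgroup G), x ≠ 1 → (χ : G → ℂ) (x : G) = (a χ : ℂ) := fun χ hχ x hx =>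
    (hX χ hχ).2 _ _ (IndexThree.isPPart_self x.2) x.2 fun e1 => hx (Subtype.ext e1)
  have hvalY : ∀ ψ, ψ ≠ 1 → ∀ x : ↥(P : Subgroup G), x ≠ 1 →
      (ζ ψ : G → ℂ) (x : G) = (d₀ : ℂ) + (δ : ℂ) * ∑ μ ∈ orb P ψ, ((μ x : ℂˣ) : ℂ) := fun ψ hψ x hx =>
    hval ψ hψ _ x (IndexThree.isPPart_self x.2) fun e1 => hx (Subtype.ext e1)
  have hPp1 : ∀ x ∈ Pp P, x ≠ 1 := fun x hx e1 => ne_one_of_mem_Pp hx (congrArg Subtype.val e1)
  -- the main facts about a nontrivial character of the block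
  have hfacts : ∀ χ ∈ principalBlock M G, χ ≠ trivChar G →
      ∃ s d k : ℤ, sig P χ = (s : ℝ) ∧ (charDegree (χ : G → ℂ) : ℤ) = d ∧ 0 ≤ k ∧ 0 < d ∧
        ((∃ a' : ℤ, a' ^ 2 ≤ m ∧ s = ((p : ℤ) - 1) * a' ∧ d = a' + (q : ℤ) * k ∧ 1 ≤ k) ∨
          (∃ S : ℤ, (S = -1 ∨ S = (p : ℤ) - 1) ∧ s = ((p : ℤ) - 1) * d₀ + δ * m * S ∧
            d = d₀ + δ * m + (q : ℤ) * k ∧ (S = (p : ℤ) - 1 → δ = 1 → 1 ≤ k))) := by
    intro χ hχ hne
    have hdpos : 0 < (charDegree (χ : G → ℂ) : ℤ) := by exact_mod_cast charDegree_pos χ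
    rcases (hB χ).1 hχ with hχX | hχY
    · obtain ⟨μ, hμ⟩ := exists_hom_ne_one h.comm (hPp1 x₁ hx₁)
      obtain ⟨k, hk⟩ := exists_mult (P := P) χ μ
      have hsum := sum_conj_hom hμ
      rw [← Finset.add_sum_erase _ _ (Finset.mem_univ (1 : ↥(P : Subgroup G))), map_one, Units.val_one, map_one] at hsum
      rw [← Finset.add_sum_erase _ _ (Finset.mem_univ (1 : ↥(P : Subgroup G))), map_one, Units.val_one, map_one,
        OneMemClass.coe_one, irr_one_eq, mul_one,
        Finset.sum_congr rfl (g := fun x => (a χ : ℂ) * conj ((μ x : ℂˣ) : ℂ)) fun x hx => by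
          rw [hvalX χ hχX x (Finset.ne_of_mem_erase hx)], ← Finset.mul_sum,
        show ∑ x ∈ (Finset.univ : Finset ↥(P : Subgroup G)).erase 1, conj ((μ x : ℂˣ) : ℂ) = -1 by
          linear_combination hsum, ← hqdef] at hk
      have hdeq : (charDegree (χ : G → ℂ) : ℤ) = a χ + (q : ℤ) * k := by
        have : ((charDegree (χ : G → ℂ) : ℤ) : ℂ) = ((a χ + (q : ℤ) * k : ℤ) : ℂ) := by
          push_cast; linear_combination hk
        exact_mod_cast this
      refine ⟨((p : ℤ) - 1) * a χ, _, k, ?_, rfl, Int.natCast_nonneg k, hdpos,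
        Or.inl ⟨a χ, ha2 χ hχX hne, rfl, hdeq, ?_⟩⟩
      · apply Complex.ofReal_injective
        rw [coe_sig, Finset.sum_congr rfl fun x hx => hvalX χ hχX x (hPp1 x hx), Finset.sum_const,
          nsmul_eq_mul, hn, Nat.cast_sub (by omega : 1 ≤ p)]
        push_cast; ring
      · by_contra hk0
        have hk0' : (k : ℤ) = 0 := by omega
        refine hne (eq_trivChar_of_apply_eq hx₁1 ?_)
        rw [hvalX χ hχX x₁ (hPp1 x₁ hx₁), irr_one_eq]
        have : a χ = (charDegree (χ : G → ℂ) : ℤ) := by rw [hdeq, hk0', mul_zero, add_zero]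
        rw [this]; simp
    · obtain ⟨ψ, hψ, rfl⟩ := hsurj χ hχY
      obtain ⟨μ, hμ, hμo⟩ := houter ψ hψ
      obtain ⟨k, hk⟩ := exists_mult (P := P) (ζ ψ) μ
      have hsum := sum_conj_hom hμ
      rw [← Finset.add_sum_erase _ _ (Finset.mem_univ (1 : ↥(P : Subgroup G))), map_one, Units.val_one, map_one] at hsum
      have hor : ∀ ν ∈ orb P ψ, ∑ x ∈ (Finset.univ : Finset ↥(P : Subgroup G)).erase 1,
          ((ν x : ℂˣ) : ℂ) * conj ((μ x : ℂˣ) : ℂ) = -1 := by
        intro ν hν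
        have e1 := orth_hom (P := P) (μ := μ) (ν := ν) fun e1 => hμo (e1 ▸ hν)
        rw [← Finset.add_sum_erase _ _ (Finset.mem_univ (1 : ↥(P : Subgroup G))), map_one, map_one, Units.val_one,
          map_one, mul_one] at e1
        linear_combination e1
      rw [← Finset.add_sum_erase _ _ (Finset.mem_univ (1 : ↥(P : Subgroup G))), map_one, Units.val_one, map_one,
        OneMemClass.coe_one, irr_one_eq, mul_one,
        Finset.sum_congr rfl (g := fun x => (d₀ : ℂ) * conj ((μ x : ℂˣ) : ℂ)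
          + (δ : ℂ) * ∑ ν ∈ orb P ψ, ((ν x : ℂˣ) : ℂ) * conj ((μ x : ℂˣ) : ℂ)) fun x hx => by
          rw [hvalY ψ hψ x (Finset.ne_of_mem_erase hx), add_mul, mul_assoc, Finset.sum_mul],
        Finset.sum_add_distrib, ← Finset.mul_sum, ← Finset.mul_sum, Finset.sum_comm, Finset.sum_congr rfl hor,
        show ∑ x ∈ (Finset.univ : Finset ↥(P : Subgroup G)).erase 1, conj ((μ x : ℂˣ) : ℂ) = -1 by
          linear_combination hsum, Finset.sum_const, nsmul_eq_mul, horbcard ψ hψ, ← hqdef] at hk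
      have hdeq : (charDegree ((ζ ψ : IrrCharacter G) : G → ℂ) : ℤ) = d₀ + δ * m + (q : ℤ) * k := by
        have : ((charDegree ((ζ ψ : IrrCharacter G) : G → ℂ) : ℤ) : ℂ) = ((d₀ + δ * m + (q : ℤ) * k : ℤ) : ℂ) := by
          push_cast; linear_combination hk
        exact_mod_cast this
      -- all or none of the orbit kills `x₁`
      have hall : ∀ ν ∈ orb P ψ, (ν x₁ = 1 ↔ ψ x₁ = 1) := by
        intro ν hν
        obtain ⟨α, -, rfl⟩ := Finset.mem_image.1 hν
        have hαx : ((α : MulAut ↥(P : Subgroup G)) x₁) ∈ Pp P := by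
          have := mem_Pp.1 hx₁
          rw [Subgroup.orderOf_coe] at this
          rw [mem_Pp, Subgroup.orderOf_coe, MulEquiv.orderOf_eq, this]
        obtain ⟨i, hi⟩ := Pp_mem_zpowers hP hP1 hx₁ hαx
        obtain ⟨j, hj⟩ := Pp_mem_zpowers hP hP1 hαx hx₁
        show ψ ((α : MulAut ↥(P : Subgroup G)) x₁) = 1 ↔ _
        constructor
        · intro e1; rw [← hj]; simp [e1]
        · intro e1; rw [← hi]; simp [e1]
      set S : ℤ := if ψ x₁ = 1 then (p : ℤ) - 1 else -1 with hS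
      have hsig : sig P (ζ ψ) = ((((p : ℤ) - 1) * d₀ + δ * m * S : ℤ) : ℝ) := by
        apply Complex.ofReal_injective
        rw [coe_sig, Finset.sum_congr rfl fun x hx => hvalY ψ hψ x (hPp1 x hx), Finset.sum_add_distrib,
          Finset.sum_const, ← Finset.mul_sum, Finset.sum_comm, nsmul_eq_mul, hn,
          Finset.sum_congr rfl (g := fun _ => (S : ℂ)) fun ν hν => ?_, Finset.sum_const, nsmul_eq_mul,
          horbcard ψ hψ, Nat.cast_sub (by omega : 1 ≤ p)]
        · push_cast; ring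
        · rw [sum_hom_Pp hP hP1 hx₁ ν, hS]
          by_cases e1 : ψ x₁ = 1
          · rw [if_pos ((hall ν hν).2 e1), if_pos e1, Nat.cast_sub (by omega : 1 ≤ p)]; push_cast; ring
          · rw [if_neg (fun e2 => e1 ((hall ν hν).1 e2)), if_neg e1]; push_cast; ring
      refine ⟨_, _, k, hsig, rfl, Int.natCast_nonneg k, hdpos, Or.inr ⟨S, ?_, rfl, hdeq, fun hS1 hδ1 => ?_⟩⟩
      · rw [hS]; split_ifs <;> simp
      · by_contra hk0
        have hk0' : (k : ℤ) = 0 := by omega
        have hψ1 : ψ x₁ = 1 := by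
          by_contra e1
          rw [hS, if_neg e1] at hS1
          omega
        refine hne (eq_trivChar_of_apply_eq hx₁1 ?_)
        rw [hvalY ψ hψ x₁ (hPp1 x₁ hx₁), irr_one_eq,
          Finset.sum_congr rfl (g := fun _ => (1 : ℂ)) fun ν hν => by rw [(hall ν hν).2 hψ1, Units.val_one],
          Finset.sum_const, nsmul_eq_mul, mul_one, horbcard ψ hψ, hδ1]
        have : ((charDegree ((ζ ψ : IrrCharacter G) : G → ℂ) : ℤ) : ℂ) = ((d₀ + δ * m + (q : ℤ) * k : ℤ) : ℂ) := by
          rw [hdeq]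
        rw [hk0', hδ1] at this
        push_cast at this
        push_cast
        linear_combination -this
  have hqR : (autCard P : ℝ) * Nat.card (P : Subgroup G) = (m : ℝ) * q := by rw [← hmdef, ← hqdef]
  have hmR : (2 : ℝ) ≤ m := by exact_mod_cast hm2
  have hpqR : (p : ℝ) ≤ q := by exact_mod_cast hpq
  by_cases hp5 : p = 3
  · obtain ⟨h9, hd00, hm2'⟩ := hq9 hp5
    refine criterion h hM hc hpairs ⟨x₁, hx₁⟩ (l := 1 / 3) (by norm_num) (fun χ hχ hne => ?_) ?_
    · obtain ⟨s, d, k, hs, hd, hk, hd1, hcase⟩ := hfacts χ hχ hne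
      have hgoal : 3 * s ≤ 2 * d := by
        rw [hp5] at hcase
        rcases hcase with ⟨a', ha', rfl, rfl, hk1⟩ | ⟨S, hS, rfl, rfl, hk1⟩
        · rw [hm2'] at ha'
          have : a' ≤ 1 := by nlinarith
          push_cast
          nlinarith
        · rw [hd00, hm2'] at *
          push_cast at *
          rcases hδ with e1 | e1 <;> subst e1 <;> rcases hS with e2 | e2 <;> subst e2
          · nlinarith
          · have := hk1 (by norm_num) rfl; nlinarith
          · rcases lt_or_ge k 1 with hk0 | hk1'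
            · have : k = 0 := by omega
              subst this; omega
            · nlinarith
          · nlinarith
      rw [hs, hnR, hp5, show (charDegree (χ : G → ℂ) : ℝ) = (d : ℝ) by rw [← hd]; simp]
      have : (3 : ℝ) * (s : ℝ) ≤ 2 * (d : ℝ) := by exact_mod_cast hgoal
      norm_num
      linarith
    · rw [hnR, hqR, hp5]
      have h9' : (9 : ℝ) ≤ q := by exact_mod_cast h9
      have : (m : ℝ) = 2 := by exact_mod_cast hm2'
      rw [this]; norm_num; linarith
  · have hp5' : (5 : ℝ) ≤ p := by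
      have : p ≠ 4 := fun e1 => absurd (e1 ▸ hp.out) (by norm_num)
      exact_mod_cast (show 5 ≤ p by omega)
    refine criterion h hM hc hpairs ⟨x₁, hx₁⟩ (l := 1 / 2) (by norm_num) (fun χ hχ hne => ?_) ?_
    · obtain ⟨s, d, k, hs, hd, hk, hd1, hcase⟩ := hfacts χ hχ hne
      have hgoal : 2 * s ≤ ((p : ℤ) - 1) * d := by
        have hn0 : (0 : ℤ) ≤ (p : ℤ) - 1 := by omega
        have hq0 : (0 : ℤ) ≤ q := Int.natCast_nonneg q
        rcases hcase with ⟨a', ha', rfl, rfl, hk1⟩ | ⟨S, hS, rfl, rfl, hk1⟩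
        · have h1 : a' ≤ (m : ℤ) := by nlinarith
          have h2 : (q : ℤ) ≤ (q : ℤ) * k := le_mul_of_one_le_right hq0 hk1
          have h3 : a' ≤ (q : ℤ) * k := by linarith
          linarith [mul_le_mul_of_nonneg_left h3 hn0]
        · rcases hδ with e1 | e1 <;> subst e1 <;> rcases hS with e2 | e2 <;> subst e2
          · have h1 : (0 : ℤ) ≤ ((p : ℤ) - 1) * ((q : ℤ) * k) := mul_nonneg hn0 (mul_nonneg hq0 hk)
            linarith [mul_le_mul_of_nonneg_left hd0m hn0]
          · have h2 : (q : ℤ) ≤ (q : ℤ) * k := le_mul_of_one_le_right hq0 (hk1 rfl rfl)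
            have h1 : d₀ + m ≤ (q : ℤ) * k := by linarith
            linarith [mul_le_mul_of_nonneg_left h1 hn0]
          · have hk' : 1 ≤ k := by
              by_contra hk0
              have : k = 0 := by omega
              subst this; linarith
            have h2 : (q : ℤ) ≤ (q : ℤ) * k := le_mul_of_one_le_right hq0 hk'
            linarith [mul_le_mul_of_nonneg_left h2 hn0]
          · have h1 : d₀ - (m : ℤ) ≤ (q : ℤ) * k := by linarith [mul_nonneg hq0 hk]
            linarith [mul_le_mul_of_nonneg_left h1 hn0]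
      rw [hs, hnR, show (charDegree (χ : G → ℂ) : ℝ) = (d : ℝ) by rw [← hd]; simp]
      have : (2 : ℝ) * (s : ℝ) ≤ ((p : ℝ) - 1) * (d : ℝ) := by exact_mod_cast hgoal
      linarith
    · rw [hnR, hqR]
      have hL : 2 * (p : ℝ) ≤ (m : ℝ) * q := by nlinarith
      nlinarith [mul_le_mul_of_nonneg_left hL (show (0 : ℝ) ≤ (p : ℝ) - 3 by linarith)]

end CfsgLib.Blocks.OrderPPairs
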