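import Cfsg.Agent.Lib.Blocks.OrderPPairs.Restrict

/-!
# Transitive automizer

If the nonidentity elements of an abelian Sylow subgroup of a simple group have order `p` odd, are
all conjugate and have automizer semiregular, then two elements of order `p` generate a non
`p`-solvable group.
-/

set_option autoImplicit false

namespace CfsgLib.Blocks.OrderPPairs

open Cfsg CfsgLib.Blocks CfsgLib.Blocks.TIAbelian
open scoped Classical ComplexConjugate

variable {G : Type*} [Group G] [Fintype G] [IsSimpleGroup G] {p : ℕ} [hp : Fact p.Prime] {P : Sylow p G}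

theorem one_class (h : FrobSylow P) (hp2 : p ≠ 2) (hP1 : (P : Subgroup G) ≠ ⊥)
    (hexp : ∀ x ∈ (P : Subgroup G), x ≠ 1 → orderOf x = p)
    (hconj : ∀ x ∈ (P : Subgroup G), ∀ y ∈ (P : Subgroup G), x ≠ 1 → y ≠ 1 → IsConj x y)
    (hpairs : ∀ x y : G, orderOf x = p → orderOf y = p →
      IsPSolvable p ↥(Subgroup.closure ({x, y} : Set G))) : False := by
  obtain ⟨x₀, hx₀, hx₀1⟩ := (Subgroup.bot_or_exists_ne_one (P : Subgroup G)).resolve_left hP1
  have hne : (⟨x₀, hx₀⟩ : ↥(P : Subgroup G)) ≠ 1 := fun e => hx₀1 (congrArg Subtype.val e)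
  have hPp : Pp P = (Finset.univ : Finset ↥(P : Subgroup G)).erase 1 := by
    ext x
    rw [mem_Pp, Finset.mem_erase]
    refine ⟨fun e => ⟨fun e1 => ?_, Finset.mem_univ _⟩, fun e => hexp x x.2 fun e1 => e.1 (Subtype.ext e1)⟩
    rw [e1, OneMemClass.coe_one, orderOf_one] at e
    exact hp.out.one_lt.ne e
  set q := Nat.card (P : Subgroup G) with hq
  have hn : (Pp P).card = q - 1 := by
    rw [hPp, Finset.card_erase_of_mem (Finset.mem_univ _), Finset.card_univ, hq, Fintype.card_eq_nat_card]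
  have hm : autCard P = q - 1 := by
    rw [← h.card_conj_inter hx₀ hx₀1, ← hn, hPp]
    refine congrArg Finset.card (Finset.ext fun y => ?_)
    simp only [Finset.mem_filter, Finset.mem_univ, true_and, Finset.mem_erase, and_true]
    constructor
    · intro e e1
      rw [e1, OneMemClass.coe_one] at e
      exact hx₀1 (isConj_one_left.1 e)
    · exact fun e => hconj x₀ hx₀ y y.2 hx₀1 fun e1 => e (Subtype.ext e1)
  have hq3 : 3 ≤ q := by
    obtain ⟨k, hk⟩ := P.2.exists_card_eq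
    have hk0 : k ≠ 0 := by
      rintro rfl
      rw [pow_zero] at hk
      exact hP1 (Subgroup.eq_bot_of_card_eq _ hk)
    have h3 : 3 ≤ p := by have := hp.out.two_le; omega
    calc 3 ≤ p := h3
      _ ≤ p ^ k := Nat.le_self_pow hk0 p
      _ = q := hk.symm
  obtain ⟨M, hM⟩ := exists_isPModular hp.out
  have hc : ∀ y : G, orderOf y = p →
      Nat.card (Subgroup.centralizer ({y} : Set G)) = Nat.card (Subgroup.centralizer ({x₀} : Set G)) := by
    intro y hy
    have hy1 : y ≠ 1 := fun e => by rw [e, orderOf_one] at hy; exact hp.out.one_lt.ne hy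
    obtain ⟨u, hu⟩ := exists_conj_mem_sylow_p P (R := Subgroup.zpowers y)
      (IsPGroup.of_card (n := 1) (by rw [Nat.card_zpowers, hy, pow_one]))
    have hcj : IsConj x₀ y := (hconj x₀ hx₀ _ (hu y (Subgroup.mem_zpowers y)) hx₀1
      fun e => hy1 (conj_eq_one_iff.mp e)).trans (isConj_iff.2 ⟨u, rfl⟩).symm
    have e1 := card_filter_conj y y
    have e2 := card_filter_conj x₀ x₀
    rw [if_pos (IsConj.refl _)] at e1 e2
    obtain ⟨w, hw⟩ := isConj_iff.1 hcj
    have e3 := card_filter_conj x₀ y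
    rw [if_pos hcj] at e3
    rw [← e3, ← e2]
    refine Finset.card_bij' (fun g _ => w⁻¹ * g) (fun g _ => w * g) ?_ ?_ ?_ ?_
    · intro g hg
      simp only [Finset.mem_filter, Finset.mem_univ, true_and] at hg ⊢
      calc w⁻¹ * g * x₀ * (w⁻¹ * g)⁻¹ = w⁻¹ * (g * x₀ * g⁻¹) * w := by group
        _ = w⁻¹ * (w * x₀ * w⁻¹) * w := by rw [hg, hw]
        _ = x₀ := by group
    · intro g hg
      simp only [Finset.mem_filter, Finset.mem_univ, true_and] at hg ⊢
      calc w * g * x₀ * (w * g)⁻¹ = w * (g * x₀ * g⁻¹) * w⁻¹ := by group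
        _ = y := by rw [hg, hw]
    · intro g _; group
    · intro g _; group
  have hne0 : (Pp P).Nonempty := ⟨⟨x₀, hx₀⟩, mem_Pp.2 (hexp x₀ hx₀ hx₀1)⟩
  set n : ℝ := ((Pp P).card : ℝ) with hnR
  have hq3' : (3 : ℝ) ≤ (q : ℝ) := by exact_mod_cast hq3
  have hnq : n = (q : ℝ) - 1 := by rw [hnR, hn, Nat.cast_sub (by omega : 1 ≤ q), Nat.cast_one]
  have hmq : (autCard P : ℝ) = (q : ℝ) - 1 := by rw [hm, Nat.cast_sub (by omega : 1 ≤ q), Nat.cast_one]
  refine criterion h hM hc hpairs hne0 (l := ((q : ℝ) - 2) / (2 * ((q : ℝ) - 1)))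
    (div_nonneg (by linarith) (by linarith)) ?_ ?_
  · intro χ hχ hχ1
    obtain ⟨μ, hμ⟩ := exists_hom_ne_one h.comm hne
    obtain ⟨k, hk⟩ := exists_mult (P := P) χ μ
    set d := charDegree (χ : G → ℂ) with hd
    have hval : ∀ x : ↥(P : Subgroup G), x ≠ 1 → (χ : G → ℂ) (x : G) = (χ : G → ℂ) x₀ := fun x hx => by
      obtain ⟨w, hw⟩ := isConj_iff.1 (hconj x₀ hx₀ x x.2 hx₀1 fun e1 => hx (Subtype.ext e1))
      rw [← hw, irr_conj_apply]
    have hsum := sum_conj_hom hμ
    rw [← Finset.add_sum_erase _ _ (Finset.mem_univ (1 : ↥(P : Subgroup G))), map_one, Units.val_one, map_one] at hsum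
    rw [← Finset.add_sum_erase _ _ (Finset.mem_univ (1 : ↥(P : Subgroup G))), map_one, Units.val_one, map_one,
      OneMemClass.coe_one, irr_one_eq, ← hd, mul_one,
      Finset.sum_congr rfl (g := fun x => (χ : G → ℂ) x₀ * conj ((μ x : ℂˣ) : ℂ)) fun x hx => by
        rw [hval x (Finset.ne_of_mem_erase hx)], ← Finset.mul_sum,
      show ∑ x ∈ (Finset.univ : Finset ↥(P : Subgroup G)).erase 1, conj ((μ x : ℂˣ) : ℂ) = -1 by
        linear_combination hsum] at hk
    set a : ℝ := (d : ℝ) - (q : ℝ) * k with ha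
    have hχa : (χ : G → ℂ) x₀ = (a : ℂ) := by rw [ha]; push_cast; linear_combination -hk
    have hsig : sig P χ = n * a := by
      apply Complex.ofReal_injective
      rw [coe_sig, Finset.sum_congr rfl (g := fun _ => (a : ℂ)) fun x hx => by
        rw [hPp, Finset.mem_erase] at hx; rw [hval x hx.1, hχa], Finset.sum_const, nsmul_eq_mul, hnR]
      push_cast; ring
    have hk1 : 1 ≤ k := by
      by_contra hk0
      have : k = 0 := by omega
      apply hχ1 (eq_trivChar_of_apply_eq hx₀1 ?_)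
      rw [hχa, irr_one_eq, ha, this, hd]; simp
    have hkR : (1 : ℝ) ≤ k := by exact_mod_cast hk1
    have h2 := sum_sq h hM
    have ht : trivChar G ∈ pB M G := mem_pB.2 (trivChar_mem_principalBlock hM)
    have hmem : χ ∈ (pB M G).erase (trivChar G) := Finset.mem_erase.2 ⟨hχ1, mem_pB.2 hχ⟩
    rw [← Finset.add_sum_erase _ _ ht, ← Finset.add_sum_erase _ _ hmem, sig_trivChar, hsig, ← hnR,
      hmq, ← hq, hnq] at h2
    have hrest : 0 ≤ ∑ x ∈ ((pB M G).erase (trivChar G)).erase χ, sig P x ^ 2 :=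
      Finset.sum_nonneg fun x _ => sq_nonneg _
    have ha2 : a ^ 2 + 1 ≤ (q : ℝ) := by
      have hpos : (0 : ℝ) < ((q : ℝ) - 1) ^ 2 := pow_two_pos_of_ne_zero (by linarith)
      nlinarith
    have hq1 : (q : ℝ) - 1 ≠ 0 := by linarith
    rw [hsig, ← hnR, hnq, show ((q : ℝ) - 2) / (2 * ((q : ℝ) - 1)) * ((q : ℝ) - 1) * (d : ℝ)
      = ((q : ℝ) - 2) * d / 2 by field_simp]
    rcases le_or_gt a 0 with ha0 | ha0
    · have : 0 ≤ ((q : ℝ) - 2) * d := mul_nonneg (by linarith) (Nat.cast_nonneg d)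
      nlinarith
    · have hle : a ≤ (q : ℝ) - 2 := by
        have hz : (((d : ℤ) - (q : ℤ) * k : ℤ) : ℝ) = a := by rw [ha]; push_cast; ring
        rw [← hz] at ha2 ⊢
        rcases le_or_gt ((d : ℤ) - (q : ℤ) * k) ((q : ℤ) - 2) with hzz | hzz
        · exact_mod_cast hzz
        · exfalso
          have h1 : (q : ℤ) - 1 ≤ (d : ℤ) - (q : ℤ) * k := by omega
          have h1' : (q : ℝ) - 1 ≤ (((d : ℤ) - (q : ℤ) * k : ℤ) : ℝ) := by exact_mod_cast h1
          nlinarith
      have hdq : (q : ℝ) + a ≤ d := by nlinarith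
      nlinarith [mul_le_mul_of_nonneg_left hdq (show (0:ℝ) ≤ (q : ℝ) - 2 by linarith)]
  · have hp3 : (3 : ℝ) ≤ (p : ℝ) := by
      exact_mod_cast (show 3 ≤ p by have := hp.out.two_le; omega)
    rw [← hnR, hmq, hnq, ← hq]
    have e : ((q : ℝ) - 2) / (2 * ((q : ℝ) - 1)) * (((q : ℝ) - 1) * q - ((q : ℝ) - 1))
        = ((q : ℝ) - 2) * ((q : ℝ) - 1) / 2 := by
      have : ((q : ℝ) - 1) ≠ 0 := by linarith
      field_simp
    rw [e]
    nlinarith [mul_nonneg (mul_nonneg (show (0:ℝ) ≤ (q:ℝ) - 1 by linarith) (show (0:ℝ) ≤ q by linarith))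
      (show (0:ℝ) ≤ (p : ℝ) - 3 by linarith)]

end CfsgLib.Blocks.OrderPPairs
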