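import Cfsg.Agent.Lib.Blocks.TIAbelian
import Cfsg.Agent.Lib.Fusion.PSolvable

/-!
# Pairs of elements of order `p` generating a `p`-solvable group

With abelian Sylow subgroups such a pair generates, modulo the `p'`-core, an elementary abelian
`p`-group, so among the products `x * y ^ k`, `0 < k < p`, at most one is `p`-regular and the other
ones have a `p`-part of order `p`.
-/

set_option autoImplicit false

namespace CfsgLib.Blocks.OrderPPairs

open Cfsg CfsgLib.Blocks CfsgLib.Blocks.TIAbelian Subgroup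
open CfsgLib.Solvable
open scoped Classical

variable {G : Type*} [Group G] {p : ℕ} [hp : Fact p.Prime]

/-- A p-solvable group with abelian Sylow subgroups, generated by elements of p-power order, is an
abelian p-group modulo its p'-core. -/
theorem quot_isPGroup_comm {H : Type*} [Group H] [Finite H] (hH : IsPSolvable p H)
    (hab : ∀ a b : H, (∀ T : Sylow p H, a ∈ (T : Subgroup H) → b ∈ (T : Subgroup H) → a * b = b * a))
    (S : Set H) (hS : closure S = ⊤) (hSp : ∀ s ∈ S, ∃ k, orderOf s = p ^ k) :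
    IsPGroup p (H ⧸ pPrimeCore p H) ∧ ∀ a b : H ⧸ pPrimeCore p H, a * b = b * a := by
  set π := QuotientGroup.mk' (pPrimeCore p H) with hπ
  have hsurj : Function.Surjective π := QuotientGroup.mk'_surjective _
  have hcent := Fusion.PSolvable.centralizer_pCore_le (Fusion.PSolvable.psolvable_quotient hH _)
    (Components.pPrimeCore_quotient_eq_bot (G := H) (p := p))
  have hT : ∀ T : Sylow p H, (T : Subgroup H).map π = pCore p (H ⧸ pPrimeCore p H) := by
    intro T
    let U : Sylow p (H ⧸ pPrimeCore p H) := T.mapSurjective hsurj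
    have hU : (U : Subgroup (H ⧸ pPrimeCore p H)) = (T : Subgroup H).map π := rfl
    have hle : pCore p (H ⧸ pPrimeCore p H) ≤ (T : Subgroup H).map π := hU ▸ Cores.pCore_le_sylow U
    refine le_antisymm (fun a ha => hcent (mem_centralizer_iff.2 fun b hb => ?_)) hle
    obtain ⟨c, hc, rfl⟩ := hle hb
    obtain ⟨d, hd, rfl⟩ := ha
    rw [← map_mul, hab c d T hc hd, map_mul]
  have htop : pCore p (H ⧸ pPrimeCore p H) = ⊤ := by
    rw [eq_top_iff, ← map_top_of_surjective π hsurj, ← hS, MonoidHom.map_closure, closure_le]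
    rintro _ ⟨s, hs, rfl⟩
    obtain ⟨k, hk⟩ := hSp s hs
    obtain ⟨T, hT'⟩ := (IsPGroup.of_card (n := k) (by rw [Nat.card_zpowers, hk]) :
      IsPGroup p ↥(zpowers s)).exists_le_sylow
    exact hT T ▸ ⟨s, hT' (mem_zpowers s), rfl⟩
  obtain ⟨T⟩ : Nonempty (Sylow p H) := inferInstance
  refine ⟨?_, fun a b => ?_⟩
  · have := Cores.isPGroup_pCore (G := H ⧸ pPrimeCore p H) p
    rw [htop] at this
    exact this.of_equiv topEquiv
  · have ha : a ∈ (T : Subgroup H).map π := by rw [hT T, htop]; trivial
    have hb : b ∈ (T : Subgroup H).map π := by rw [hT T, htop]; trivial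
    obtain ⟨c, hc, rfl⟩ := ha
    obtain ⟨d, hd, rfl⟩ := hb
    rw [← map_mul, hab c d T hc hd, map_mul]

variable [Fintype G]

/-- The products `x * y ^ k` have a p-part of order p, except for at most one exponent. -/
theorem bad_unique {P : Sylow p G} (hP : ∀ a ∈ (P : Subgroup G), ∀ b ∈ (P : Subgroup G), a * b = b * a)
    {x y : G} (hx : orderOf x = p) (hy : orderOf y = p)
    (hH : IsPSolvable p ↥(closure ({x, y} : Set G))) {j k : ℕ} (hjk : j < k) (hk : k < p)
    (hj : orderOf (pEl p (x * y ^ j)) ≠ p) : orderOf (pEl p (x * y ^ k)) = p := by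
  set H := closure ({x, y} : Set G) with hHdef
  let x' : ↥H := ⟨x, subset_closure (by simp)⟩
  let y' : ↥H := ⟨y, subset_closure (by simp)⟩
  have hab : ∀ a b : ↥H, ∀ T : Sylow p ↥H, a ∈ (T : Subgroup ↥H) → b ∈ (T : Subgroup ↥H) → a * b = b * a := by
    intro a b T ha hb
    obtain ⟨g, hg⟩ := exists_conj_mem_sylow_p P (T.2.map H.subtype)
    have := hP _ (hg a ⟨a, ha, rfl⟩) _ (hg b ⟨b, hb, rfl⟩)
    refine Subtype.ext (mul_left_cancel (a := g) (mul_right_cancel (b := g⁻¹) ?_))
    calc g * ((a : G) * b) * g⁻¹ = g * a * g⁻¹ * (g * b * g⁻¹) := by group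
      _ = g * b * g⁻¹ * (g * a * g⁻¹) := this
      _ = g * ((b : G) * a) * g⁻¹ := by group
  set π := QuotientGroup.mk' (pPrimeCore p ↥H) with hπ
  have hS : closure ({x', y'} : Set ↥H) = ⊤ := by
    rw [eq_top_iff, ← closure_closure_coe_preimage (k := ({x, y} : Set G))]
    exact closure_mono fun a ha => by
      rcases ha with h | h
      · exact Or.inl (Subtype.ext h)
      · exact Or.inr (Subtype.ext h)
  have hSp : ∀ s ∈ ({x', y'} : Set ↥H), ∃ k, orderOf s = p ^ k := by
    rintro s (rfl | rfl)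
    · exact ⟨1, by rw [← orderOf_coe, pow_one]; exact hx⟩
    · exact ⟨1, by rw [← orderOf_coe, pow_one]; exact hy⟩
  obtain ⟨hA, hcomm⟩ := quot_isPGroup_comm hH hab _ hS hSp
  have hexp : ∀ a, a ^ p = (1 : ↥H ⧸ pPrimeCore p ↥H) := by
    intro a
    obtain ⟨b, rfl⟩ := QuotientGroup.mk'_surjective (pPrimeCore p ↥H) a
    let φ : ↥H →* ↥H ⧸ pPrimeCore p ↥H := MonoidHom.mk' (fun c => π c ^ p) fun c d => by
      show π (c * d) ^ p = _
      rw [map_mul, Commute.mul_pow (hcomm _ _)]
    have hle : (⊤ : Subgroup ↥H) ≤ φ.ker := by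
      rw [← hS, closure_le]
      rintro s (rfl | rfl)
      · show π x' ^ p = 1
        rw [← map_pow, show x' ^ p = 1 from Subtype.ext (by rw [← hx]; simp [x', pow_orderOf_eq_one]), map_one]
      · show π y' ^ p = 1
        rw [← map_pow, show y' ^ p = 1 from Subtype.ext (by rw [← hy]; simp [y', pow_orderOf_eq_one]), map_one]
    exact hle (mem_top b)
  have hker : ∀ a : ↥H, π a = 1 → ¬ p ∣ orderOf a := fun a ha hd => by
    have hm : a ∈ pPrimeCore p ↥H := (QuotientGroup.eq_one_iff a).1 ha
    have hd2 : orderOf a ∣ Nat.card (pPrimeCore p ↥H) := Subgroup.orderOf_dvd_natCard _ hm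
    exact (hp.out.coprime_iff_not_dvd.1 (Cores.coprime_card_pPrimeCore p).symm) (hd.trans hd2)
  have hgood : ∀ i : ℕ, π (x' * y' ^ i) ≠ 1 → orderOf (pEl p (x * y ^ i)) = p := by
    intro i hi
    obtain ⟨z, r, -, hzr, hc, hreg, ⟨n, hn⟩, -, -⟩ := exists_isPPart (G := ↥H) hp.out (x' * y' ^ i)
    have hpel : pEl p (x * y ^ i) = (z : G) := by
      rw [show x * y ^ i = ((x' * y' ^ i : ↥H) : G) by simp [x', y'], ← hzr, Subgroup.coe_mul]
      exact pEl_mul (congrArg Subtype.val hc.eq) (by rw [orderOf_coe, hn]) (by rwa [orderOf_coe])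
    have hr : π r = 1 := by
      obtain ⟨m, hm⟩ := IsPGroup.iff_orderOf.mp hA (π r)
      by_contra hne
      have hm0 : m ≠ 0 := fun h0 => hne (orderOf_eq_one_iff.mp (by rw [hm, h0, pow_zero]))
      exact hreg (((dvd_pow_self p hm0).trans (dvd_of_eq hm.symm)).trans (orderOf_map_dvd π r))
    rw [hpel, orderOf_coe]
    have hzp : z ^ p = 1 := by
      by_contra hne
      have h1 : π (z ^ p) = 1 := by rw [map_pow, hexp]
      apply hker _ h1
      have h2 : orderOf (z ^ p) ∣ p ^ n := hn ▸ orderOf_pow_dvd p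
      obtain ⟨l, -, hl⟩ := (Nat.dvd_prime_pow hp.out).1 h2
      have hl0 : l ≠ 0 := fun h0 => hne (orderOf_eq_one_iff.1 (by rw [hl, h0, pow_zero]))
      rw [hl]; exact dvd_pow_self p hl0
    refine orderOf_eq_prime hzp fun h1 => hi ?_
    rw [← hzr, h1, one_mul, hr]
  refine hgood k fun hbad => ?_
  have hbad' : π (x' * y' ^ j) = 1 := by
    by_contra h
    exact hj (hgood j h)
  have he : π (y' ^ k) = π (y' ^ j) := by
    rw [map_mul] at hbad hbad'
    exact mul_left_cancel (hbad.trans hbad'.symm)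
  have h1 : π (y' ^ (k - j)) = 1 := by
    simp only [map_pow] at he ⊢
    rw [pow_sub _ hjk.le, he, mul_inv_cancel]
  have hyo : orderOf y' = p := by rw [← orderOf_coe]; exact hy
  have hco : Nat.Coprime (orderOf y') (k - j) := by
    rw [hyo, hp.out.coprime_iff_not_dvd]
    exact Nat.not_dvd_of_pos_of_lt (by omega) (by omega)
  exact hker _ h1 (by rw [hco.orderOf_pow, hyo])

/-- The elements of order `p`. -/
noncomputable def ordP (p : ℕ) (G : Type*) [Group G] [Fintype G] : Finset G :=
  Finset.univ.filter fun g : G => orderOf g = p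

theorem mem_ordP {g : G} : g ∈ ordP p G ↔ orderOf g = p := by simp [ordP]

/-- The powering maps permute the elements of order `p`. -/
theorem image_pow_ordP {k : ℕ} (hk0 : 0 < k) (hk : k < p) :
    (ordP p G).image (fun y => y ^ k) = ordP p G := by
  have hco : Nat.Coprime p k := (hp.out.coprime_iff_not_dvd).2 (Nat.not_dvd_of_pos_of_lt hk0 hk)
  refine Finset.eq_of_subset_of_card_le (fun a ha => ?_) ?_
  · obtain ⟨y, hy, rfl⟩ := Finset.mem_image.1 ha
    rw [mem_ordP] at hy ⊢
    rw [Nat.Coprime.orderOf_pow (hy.symm ▸ hco), hy]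
  · rw [Finset.card_image_of_injOn]
    intro a ha b hb e
    rw [Finset.mem_coe, mem_ordP] at ha hb
    obtain ⟨m, hm⟩ := Nat.exists_mul_mod_eq_one_of_coprime hco.symm hp.out.one_lt
    have key : ∀ g : G, orderOf g = p → (g ^ k) ^ m = g := fun g hg => by
      rw [← pow_mul, ← pow_mod_orderOf, hg, hm.2, pow_one]
    calc a = (a ^ k) ^ m := (key a ha).symm
      _ = (b ^ k) ^ m := congrArg (· ^ m) e
      _ = b := key b hb

/-- At least `(p - 2) / (p - 1)` of the pairs of elements of order `p` have a product with p-part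
of order `p`. -/
theorem pairs_ge {P : Sylow p G} (hP : ∀ a ∈ (P : Subgroup G), ∀ b ∈ (P : Subgroup G), a * b = b * a)
    (hc : ∀ x y : G, orderOf x = p → orderOf y = p → IsPSolvable p ↥(closure ({x, y} : Set G))) :
    (p - 2) * (ordP p G).card * (ordP p G).card ≤
      (p - 1) * ∑ x ∈ ordP p G, ((ordP p G).filter fun y => orderOf (pEl p (x * y)) = p).card := by
  rw [Finset.mul_sum, show (p - 2) * (ordP p G).card * (ordP p G).card =
    ∑ _x ∈ ordP p G, (p - 2) * (ordP p G).card by rw [Finset.sum_const, smul_eq_mul, mul_comm]]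
  refine Finset.sum_le_sum fun x hx => ?_
  rw [mem_ordP] at hx
  set R := fun g : G => orderOf (pEl p g) = p with hR
  calc (p - 2) * (ordP p G).card = ∑ _y ∈ ordP p G, (p - 2) := by
        rw [Finset.sum_const, smul_eq_mul, mul_comm]
    _ ≤ ∑ y ∈ ordP p G, ((Finset.Ico 1 p).filter fun k => R (x * y ^ k)).card := by
        refine Finset.sum_le_sum fun y hy => ?_
        rw [mem_ordP] at hy
        have hle : ((Finset.Ico 1 p).filter fun k => ¬ R (x * y ^ k)).card ≤ 1 := by
          refine Finset.card_le_one.2 fun a ha b hb => ?_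
          simp only [Finset.mem_filter, Finset.mem_Ico] at ha hb
          by_contra hne
          rcases lt_or_gt_of_ne hne with h | h
          · exact hb.2 (bad_unique hP hx hy (hc x y hx hy) h hb.1.2 ha.2)
          · exact ha.2 (bad_unique hP hx hy (hc x y hx hy) h ha.1.2 hb.2)
        have := Finset.card_filter_add_card_filter_not (s := Finset.Ico 1 p) (fun k => R (x * y ^ k))
        rw [Nat.card_Ico] at this
        omega
    _ = ∑ k ∈ Finset.Ico 1 p, ((ordP p G).filter fun y => R (x * y ^ k)).card := by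
        simp only [Finset.card_filter]
        rw [Finset.sum_comm]
    _ = ∑ _k ∈ Finset.Ico 1 p, ((ordP p G).filter fun y => R (x * y)).card := by
        refine Finset.sum_congr rfl fun k hk => ?_
        rw [Finset.mem_Ico] at hk
        simp only [Finset.card_filter]
        conv_rhs => rw [← image_pow_ordP (G := G) hk.1 hk.2]
        rw [Finset.sum_image]
        have := image_pow_ordP (G := G) hk.1 hk.2
        exact Finset.injOn_of_card_image_eq (congrArg Finset.card this)
    _ = (p - 1) * ((ordP p G).filter fun y => R (x * y)).card := by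
        rw [Finset.sum_const, Nat.card_Ico, smul_eq_mul]

end CfsgLib.Blocks.OrderPPairs
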