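import Cfsg.Agent.Lib.Blocks.OrderPPairs.Core
import Mathlib.RingTheory.IntegralDomain

/-!
# Restriction to an abelian Sylow subgroup; faithfulness in a simple group
-/

set_option autoImplicit false

namespace CfsgLib.Blocks.OrderPPairs

open Cfsg CfsgLib.Blocks CfsgLib.Blocks.TIAbelian
open scoped Classical ComplexConjugate

variable {G : Type*} [Group G] [Fintype G] {p : ℕ} [hp : Fact p.Prime] {P : Sylow p G}

omit hp in
/-- A multiplicity in the restriction to `P` is a natural number. -/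
theorem exists_mult (χ : IrrCharacter G) (μ : ↥(P : Subgroup G) →* ℂˣ) :
    ∃ k : ℕ, ∑ x : ↥(P : Subgroup G), (χ : G → ℂ) (x : G) * conj ((μ x : ℂˣ) : ℂ)
      = (Nat.card (P : Subgroup G) : ℂ) * k := by
  obtain ⟨k, hk⟩ := Char.IsCharacter.classInner_nat
    (Char.IsCharacter.restrict (Char.IsIrrCharacter.isCharacter χ.2) (P : Subgroup G))
    (Char.isCharacter_hom μ)
  rw [Cfsg.classInner, inv_mul_eq_iff_eq_mul₀ (Nat.cast_ne_zero.2 Nat.card_pos.ne')] at hk
  exact ⟨k, hk⟩

omit hp in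
theorem sum_conj_hom {μ : ↥(P : Subgroup G) →* ℂˣ} (hμ : μ ≠ 1) :
    ∑ x : ↥(P : Subgroup G), conj ((μ x : ℂˣ) : ℂ) = 0 := by
  rw [← map_sum]
  have : ∑ x : ↥(P : Subgroup G), ((Units.coeHom ℂ).comp μ) x = 0 := by
    refine sum_hom_units_eq_zero _ fun e => hμ (MonoidHom.ext fun x => Units.ext ?_)
    exact DFunLike.congr_fun e x
  simp only [MonoidHom.comp_apply, Units.coeHom_apply] at this
  rw [this, map_zero]

omit hp in
/-- In a simple group only the principal character has a nonidentity element in its kernel. -/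
theorem eq_trivChar_of_apply_eq [IsSimpleGroup G] {χ : IrrCharacter G} {x : G} (hx : x ≠ 1)
    (he : (χ : G → ℂ) x = (χ : G → ℂ) 1) : χ = trivChar G := by
  haveI := irrKer_normal χ
  rcases IsSimpleGroup.eq_bot_or_eq_top_of_normal (irrKer χ) inferInstance with h | h
  · have : x ∈ irrKer χ := mem_irrKer.2 he
    rw [h, Subgroup.mem_bot] at this
    exact absurd this hx
  · exact IndexThree.eq_trivChar_of_const χ fun g => mem_irrKer.1 (h ▸ Subgroup.mem_top g)

omit hp in
/-- A nontrivial linear character of a nontrivial abelian Sylow subgroup. -/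
theorem exists_hom_ne_one (hab : ∀ a ∈ (P : Subgroup G), ∀ b ∈ (P : Subgroup G), a * b = b * a)
    {x : ↥(P : Subgroup G)} (hx : x ≠ 1) : ∃ μ : ↥(P : Subgroup G) →* ℂˣ, μ ≠ 1 := by
  letI : CommGroup ↥(P : Subgroup G) :=
    { (inferInstance : Group ↥(P : Subgroup G)) with
      mul_comm := fun a b => Subtype.ext (hab a a.2 b b.2) }
  obtain ⟨μ, hμ⟩ := CommGroup.exists_apply_ne_one_of_hasEnoughRootsOfUnity ↥(P : Subgroup G) ℂ hx
  exact ⟨μ, fun e => hμ (by rw [e, MonoidHom.one_apply])⟩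

end CfsgLib.Blocks.OrderPPairs
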