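import Cfsg.Agent.Lib.Blocks.OrderPPairs.Cyclic

/-!
# Cyclic Sylow subgroups and pairs of elements of order `p`
-/

set_option autoImplicit false

namespace CfsgLib.Blocks.OrderPPairs

open Cfsg CfsgLib.Blocks CfsgLib.Blocks.TIAbelian Subgroup
open CfsgLib.Fusion.PSolvable CfsgLib.Solvable

universe u

variable {p : ℕ} [hp : Fact p.Prime]

theorem isCyclic_sylow_of_injective {G H : Type*} [Group G] [Finite G] [Group H] [Finite H]
    {P : Sylow p G} (hP : IsCyclic ↥(P : Subgroup G)) {Q : Subgroup H} (hQ : IsPGroup p Q)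
    (f : ↥Q →* G) (hf : Function.Injective f) : IsCyclic ↥Q := by
  haveI := Fintype.ofFinite G
  haveI := hP
  obtain ⟨u, hu⟩ := exists_conj_mem_sylow_p P (R := f.range)
    (hQ.of_surjective f.rangeRestrict f.rangeRestrict_surjective)
  let g : ↥Q →* ↥(P : Subgroup G) := MonoidHom.mk'
    (fun a => ⟨u * f a * u⁻¹, hu _ ⟨a, rfl⟩⟩) fun a b => Subtype.ext (by simp [mul_assoc])
  exact isCyclic_of_injective g fun a b e =>
    hf (mul_left_cancel (mul_right_cancel (congrArg Subtype.val e)))

theorem psolvable_of_commutative {G : Type*} [Group G] [Finite G] (h : ∀ a b : G, a * b = b * a) :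
    IsPSolvable p G := by
  haveI : Group.IsSolvable G := Group.isSolvable_of_comm h
  exact psolvable_of_solvable

theorem psolvable_of_pairs (n : ℕ) : ∀ {G : Type u} [Group G] [Finite G], Nat.card G = n →
    ∀ P : Sylow p G, IsCyclic ↥(P : Subgroup G) →
    (∀ x y : G, orderOf x = p → orderOf y = p → IsPSolvable p ↥(closure ({x, y} : Set G))) →
    IsPSolvable p G := by
  induction n using Nat.strong_induction_on with
  | h n ih =>
  intro G _ _ hn P hP hpairs
  classical
  haveI := Fintype.ofFinite G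
  by_cases hP1 : (P : Subgroup G) = ⊥
  · have hco : (Nat.card ↥(⊤ : Subgroup G)).Coprime p := by
      rw [Subgroup.card_top]
      refine (hp.out.coprime_iff_not_dvd.2 fun hd => ?_).symm
      have h := P.dvd_card_of_dvd_card hd
      rw [hP1, Subgroup.card_bot] at h
      exact hp.out.not_dvd_one h
    haveI : Subsingleton (G ⧸ (⊤ : Subgroup G)) := QuotientGroup.subsingleton_quotient_top
    exact psolvable_cons ⊤ (Or.inr hco) psolvable_of_subsingleton
  have h := frobSylow_of_cyclic hP
  by_cases hp2 : p = 2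
  · refine psolvable_of_npc (Fusion.Abelian.npc_of_normalizer_le_centralizer P ?_)
    have hd := autCard_dvd h hP hP1
    have h1 : autCard P = 1 := Nat.eq_one_of_dvd_one (hd.trans (dvd_of_eq (by omega : p - 1 = 1)))
    rw [autCard_eq, Subgroup.relIndex_eq_one] at h1
    exact h1
  by_cases hO' : pPrimeCore p G = ⊥
  swap
  · set N := pPrimeCore p G with hN
    have hNc : (Nat.card N).Coprime p := Cores.coprime_card_pPrimeCore p
    refine psolvable_cons N (Or.inr hNc) ?_
    have hlt : Nat.card (G ⧸ N) < n := hn ▸ Solvable.Basic.card_quotient_lt N hO'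
    set π := QuotientGroup.mk' N
    have hsurj : Function.Surjective π := QuotientGroup.mk'_surjective N
    haveI := hP
    refine ih _ hlt rfl (P.mapSurjective hsurj)
      (isCyclic_of_surjective (π.subgroupMap (P : Subgroup G)) (π.subgroupMap_surjective _)) ?_
    have hlift : ∀ a : G ⧸ N, orderOf a = p → ∃ x : G, orderOf x = p ∧ π x = a := by
      intro a ha
      obtain ⟨g, rfl⟩ := hsurj a
      have hd : p ∣ orderOf g := ha ▸ orderOf_map_dvd π g
      obtain ⟨z, y, hzy, hc, hreg, k, hk⟩ :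
          ∃ z y : G, z * y = g ∧ Commute z y ∧ ¬ p ∣ orderOf y ∧ ∃ k, orderOf z = p ^ k := by
        obtain ⟨z, y, -, hzy, hc, hreg, hk, -, -⟩ := exists_isPPart (G := G) hp.out g
        exact ⟨z, y, hzy, hc, hreg, hk⟩
      have hz : π z ^ p = 1 ∧ π y = 1 := by
        have hyp : π y ^ p = 1 → π y = 1 := fun e => by
          rcases (Nat.dvd_prime hp.out).1 (orderOf_dvd_of_pow_eq_one e) with e1 | e1
          · exact orderOf_eq_one_iff.1 e1
          · exact absurd (e1 ▸ orderOf_map_dvd π y) hreg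
        have hg : π z ^ p * π y ^ p = 1 := by
          have h0 := pow_orderOf_eq_one (π g)
          rw [ha] at h0
          rw [← ((hc.map π)).mul_pow, ← map_mul, hzy, h0]
        have h1 : orderOf (π y ^ p) ∣ p ^ k := by
          have e : π y ^ p = (π z ^ p)⁻¹ := eq_inv_of_mul_eq_one_right hg
          rw [e, orderOf_inv]
          exact (orderOf_pow_dvd p).trans ((orderOf_map_dvd π z).trans (hk ▸ dvd_rfl))
        have h2 : orderOf (π y ^ p) ∣ orderOf y := (orderOf_pow_dvd p).trans (orderOf_map_dvd π y)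
        have h3 : π y ^ p = 1 := orderOf_eq_one_iff.1 (Nat.eq_one_of_dvd_coprimes
          (Nat.Coprime.pow_left k (hp.out.coprime_iff_not_dvd.2 hreg)) h1 h2)
        exact ⟨by rwa [h3, mul_one] at hg, hyp h3⟩
      refine ⟨z, ?_, by rw [← hzy, map_mul, hz.2, mul_one]⟩
      have h1 : z ^ p ∈ N := (QuotientGroup.eq_one_iff _).1 (by rw [← hz.1, ← map_pow]; rfl)
      have h2 : z ^ p = 1 := orderOf_eq_one_iff.1 (Nat.eq_one_of_dvd_coprimes
        (Nat.Coprime.pow_left k hNc.symm) ((orderOf_pow_dvd p).trans (hk ▸ dvd_rfl))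
        (Subgroup.orderOf_dvd_natCard _ h1))
      refine orderOf_eq_prime h2 fun e => ?_
      rw [← hzy, map_mul, hz.2, mul_one, e, map_one, orderOf_one] at ha
      exact hp.out.one_lt.ne ha
    intro a b ha hb
    obtain ⟨x, hx, rfl⟩ := hlift a ha
    obtain ⟨y, hy, rfl⟩ := hlift b hb
    have e : (closure ({x, y} : Set G)).map π = closure ({π x, π y} : Set (G ⧸ N)) := by
      rw [MonoidHom.map_closure, Set.image_pair]
    rw [← e]
    exact psolvable_of_surjective (π.subgroupMap _) (π.subgroupMap_surjective _) (hpairs x y hx hy)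
  by_cases hR : pCore p G = ⊥
  swap
  · obtain ⟨x₁, hx₁R, hx₁⟩ : ∃ x ∈ pCore p G, orderOf x = p := by
      haveI : Nontrivial ↥(pCore p G) := (Subgroup.nontrivial_iff_ne_bot _).2 hR
      obtain ⟨k, hk⟩ := (Cores.isPGroup_pCore (G := G) p).exists_card_eq
      have hk0 : k ≠ 0 := by
        rintro rfl
        rw [pow_zero] at hk
        exact hR (Subgroup.eq_bot_of_card_eq _ hk)
      obtain ⟨x, hx⟩ := exists_prime_orderOf_dvd_card' (G := ↥(pCore p G)) p (hk ▸ dvd_pow_self p hk0)
      exact ⟨x, x.2, by rw [Subgroup.orderOf_coe]; exact hx⟩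
    have hx₁P : x₁ ∈ (P : Subgroup G) := Cores.pCore_le_sylow P hx₁R
    have hall : ∀ g : G, ∃ i : ℤ, g * x₁ * g⁻¹ = x₁ ^ i := fun g => by
      have hm : g * x₁ * g⁻¹ ∈ (P : Subgroup G) :=
        Cores.pCore_le_sylow P ((inferInstance : (pCore p G).Normal).conj_mem _ hx₁R g)
      obtain ⟨i, hi⟩ := Pp_mem_zpowers hP hP1 (x := ⟨x₁, hx₁P⟩) (y := ⟨_, hm⟩) (mem_Pp.2 hx₁)
        (mem_Pp.2 (by rw [CfsgLib.BrauerSuzuki.orderOf_conj', hx₁]))
      exact ⟨i, by simpa using (congrArg Subtype.val hi).symm⟩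
    set C := centralizer ({x₁} : Set G) with hC
    haveI hCn : C.Normal := ⟨fun c hc g => by
      obtain ⟨i, hi⟩ := hall g⁻¹
      rw [inv_inv] at hi
      rw [hC, mem_centralizer_singleton_iff] at hc ⊢
      have hci : Commute c (g⁻¹ * x₁ * g) := hi ▸ (show Commute c x₁ from hc).zpow_right i
      calc g * c * g⁻¹ * x₁ = g * (c * (g⁻¹ * x₁ * g)) * g⁻¹ := by group
        _ = g * ((g⁻¹ * x₁ * g) * c) * g⁻¹ := by rw [hci.eq]
        _ = x₁ * (g * c * g⁻¹) := by group⟩
    refine psolvable_of_normal C (psolvable_of_npc (h.npc_centralizer hx₁P fun e => by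
      rw [e, orderOf_one] at hx₁; exact hp.out.one_lt.ne hx₁)) (psolvable_of_commutative fun a b => ?_)
    obtain ⟨g, rfl⟩ := QuotientGroup.mk'_surjective C a
    obtain ⟨k, rfl⟩ := QuotientGroup.mk'_surjective C b
    rw [← map_mul, ← map_mul, QuotientGroup.mk'_eq_mk']
    refine ⟨(g * k)⁻¹ * (k * g), ?_, by group⟩
    obtain ⟨i, hi⟩ := hall g
    obtain ⟨j, hj⟩ := hall k
    have e1 : ∀ (a b : G) (r s : ℤ), a * x₁ * a⁻¹ = x₁ ^ r → b * x₁ * b⁻¹ = x₁ ^ s →
        (a * b) * x₁ * (a * b)⁻¹ = x₁ ^ (r * s) := fun a b r s ha hb => by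
      rw [zpow_mul, ← ha, conj_zpow, ← hb]; group
    have e2 := (e1 g k i j hi hj).trans ((mul_comm i j ▸ e1 k g j i hj hi : (k * g) * x₁ * (k * g)⁻¹ = x₁ ^ (i * j))).symm
    rw [hC, mem_centralizer_singleton_iff]
    calc (g * k)⁻¹ * (k * g) * x₁ = (g * k)⁻¹ * ((k * g) * x₁ * (k * g)⁻¹) * (k * g) := by group
      _ = (g * k)⁻¹ * ((g * k) * x₁ * (g * k)⁻¹) * (k * g) := by rw [← e2]
      _ = x₁ * ((g * k)⁻¹ * (k * g)) := by group
  by_cases hns : IsPSolvable p G
  · exact hns
  exfalso
  obtain ⟨x, -, hx⟩ := (Subgroup.bot_or_exists_ne_one (P : Subgroup G)).resolve_left hP1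
  haveI : Nontrivial G := ⟨⟨x, 1, hx⟩⟩
  haveI : IsSimpleGroup G := ⟨fun N hNn => by
    by_contra hcon
    rw [not_or] at hcon
    haveI := hNn
    have hlt : Nat.card N < n := hn ▸ lt_of_le_of_ne (Nat.le_of_dvd Nat.card_pos (Subgroup.card_subgroup_dvd_card N))
      fun e => hcon.2 (Subgroup.eq_top_of_card_eq N e)
    obtain ⟨Q⟩ : Nonempty (Sylow p N) := inferInstance
    have hN : IsPSolvable p N := ih _ hlt rfl Q
      (isCyclic_sylow_of_injective hP Q.2 (N.subtype.comp (Q : Subgroup N).subtype)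
        (N.subtype_injective.comp (Q : Subgroup N).subtype_injective)) fun a b ha hb => by
      let φ : ↥(closure ({a, b} : Set N)) →* ↥(closure ({(a : G), (b : G)} : Set G)) :=
        MonoidHom.mk' (fun c => ⟨((c : N) : G), by
          have hm := mem_map_of_mem N.subtype c.2
          rw [MonoidHom.map_closure, Set.image_pair] at hm
          exact hm⟩) fun c d => rfl
      exact psolvable_of_injective φ (fun c d e => by
        apply Subtype.ext; apply Subtype.ext; exact Subtype.mk.inj e)
        (hpairs _ _ (by rw [orderOf_coe]; exact ha) (by rw [orderOf_coe]; exact hb))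
    haveI : Nontrivial N := (Subgroup.nontrivial_iff_ne_bot N).2 hcon.1
    rcases pCore_or_pPrimeCore_ne_bot hN with hc | hc
    · haveI : (pCore p N).Characteristic := characteristic_iff_map_eq.mpr fun e => Cores.map_pCore e p
      have hle : (pCore p N).map N.subtype ≤ pCore p G := Cores.le_pCore ((Cores.isPGroup_pCore p).map _)
      rw [hR, le_bot_iff, map_eq_bot_iff_of_injective _ N.subtype_injective] at hle
      exact hc hle
    · haveI : (pPrimeCore p N).Characteristic := characteristic_iff_map_le.mpr fun e =>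
        CfsgLib.Components.pPrimeCore_map_le p e.toMonoidHom e.surjective
      have hle : (pPrimeCore p N).map N.subtype ≤ pPrimeCore p G := Cores.le_pPrimeCore (by
        rw [card_map_of_injective N.subtype_injective]; exact Cores.coprime_card_pPrimeCore p)
      rw [hO', le_bot_iff, map_eq_bot_iff_of_injective _ N.subtype_injective] at hle
      exact hc hle⟩
  exact cyclic_case hp2 hP hP1 hns hpairs

end CfsgLib.Blocks.OrderPPairs
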